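import Mathlib
import Cfsg.Agent.H48.Form
import Cfsg.Agent.H48.PointRad

/-!
# Coordinates for the amalgam description of the symplectic group

Fixer subgroups of standard basis vectors, transitivity inside them, and avoidance of a few
hyperplanes over a field with at least three elements.
-/

set_option autoImplicit false

namespace H87.SpAm

open Matrix H48

variable {n : ℕ} {F : Type*} [Field F]

local notation "V" => (Fin n ⊕ Fin n → F)
local notation "Sp" => Matrix.symplecticGroup (Fin n) F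

/-- The first half of the standard basis. -/
def ev (k : Fin n) : V := Pi.single (Sum.inl k) 1

/-- The second half of the standard basis. -/
def fv (k : Fin n) : V := Pi.single (Sum.inr k) 1

theorem sf_ev (k : Fin n) (v : V) : sf (ev k) v = - v (Sum.inr k) := by
  rw [sf_apply, Finset.sum_eq_single k] <;> simp +contextual [ev]

theorem sf_fv (k : Fin n) (v : V) : sf (fv k) v = v (Sum.inl k) := by
  rw [sf_apply, Finset.sum_eq_single k] <;> simp +contextual [fv]

theorem sf_ev_fv (k : Fin n) : sf (ev k : V) (fv k) = -1 := by rw [sf_ev]; simp [fv]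

theorem sf_fv_ev (k : Fin n) : sf (fv k : V) (ev k) = 1 := by rw [sf_fv]; simp [ev]

theorem sf_ev_ev (j k : Fin n) : sf (ev j : V) (ev k) = 0 := by rw [sf_ev]; simp [ev]

theorem sf_fv_fv (j k : Fin n) : sf (fv j : V) (fv k) = 0 := by rw [sf_fv]; simp [fv]

theorem sf_ev_fv_ne {j k : Fin n} (h : j ≠ k) : sf (ev j : V) (fv k) = 0 := by
  rw [sf_ev]; simp [fv, h]

theorem sf_fv_ev_ne {j k : Fin n} (h : j ≠ k) : sf (fv j : V) (ev k) = 0 := by
  rw [sf_fv]; simp [ev, h]

/-- An element is determined by the images of the standard basis. -/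
theorem ext_basis {g h : Sp} (he : ∀ k : Fin n, g • (ev k : V) = h • ev k)
    (hf : ∀ k : Fin n, g • (fv k : V) = h • fv k) : g = h :=
  Subtype.ext (Matrix.ext_of_mulVec_single fun i => by
    rcases i with k | k
    · exact he k
    · exact hf k)

/-- The pointwise fixer of a set of vectors. -/
def fixS (A : Set V) : Subgroup Sp where
  carrier := {g | ∀ x ∈ A, g • x = x}
  one_mem' x _ := one_smul _ x
  mul_mem' := fun {g h} hg hh x hx => by rw [mul_smul, hh x hx, hg x hx]
  inv_mem' := fun {g} hg x hx => by rw [inv_smul_eq_iff, hg x hx]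

theorem mem_fixS {A : Set V} {g : Sp} : g ∈ fixS A ↔ ∀ x ∈ A, g • x = x := Iff.rfl

theorem fixS_antitone {A B : Set V} (h : A ⊆ B) : fixS B ≤ fixS A := fun _ hg x hx => hg x (h hx)

theorem not_mem_span {A : Set V} {a z : V} (hz : ∀ x ∈ A, sf x z = 0) (ha : sf a z ≠ 0) :
    a ∉ Submodule.span F A := fun h => ha (by
  have : Submodule.span F A ≤ LinearMap.ker ((sf : V →ₗ[F] V →ₗ[F] F).flip z) :=
    Submodule.span_le.2 fun x hx => hz x hx
  exact this h)

/-- Witt's theorem inside a fixer. -/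
theorem exists_fix_move {A : Set V} {a b : V} (ha : a ∉ Submodule.span F A)
    (hb : b ∉ Submodule.span F A) (h : ∀ x ∈ A, sf x a = sf x b) :
    ∃ g ∈ fixS A, g • a = b := by
  obtain ⟨g, -, hgU, hga⟩ := exists_move ha hb fun x hx => by
    induction hx using Submodule.span_induction with
    | mem x hx => exact h x hx
    | zero => simp
    | add x y _ _ hx hy => simp [hx, hy]
    | smul c x _ hx => simp [hx]
  exact ⟨g, fun x hx => hgU x (Submodule.subset_span hx), hga⟩

/-- The outer basis vectors. -/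
def Out (m : ℕ) : Set V := {x | ∃ k : Fin n, m ≤ (k : ℕ) ∧ (x = ev k ∨ x = fv k)}

/-- The inner space. -/
def InW (m : ℕ) (v : V) : Prop :=
  ∀ k : Fin n, m ≤ (k : ℕ) → v (Sum.inl k) = 0 ∧ v (Sum.inr k) = 0

/-- The fixer of the outer basis vectors. -/
def LG (m : ℕ) : Subgroup Sp := fixS (Out m)

theorem Out_anti {m m' : ℕ} (h : m ≤ m') : (Out m' : Set V) ⊆ Out m :=
  fun _ ⟨k, hk, hx⟩ => ⟨k, h.trans hk, hx⟩

theorem LG_mono {m m' : ℕ} (h : m ≤ m') : (LG m : Subgroup Sp) ≤ LG m' :=
  fixS_antitone (Out_anti h)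

theorem LG_n : (LG n : Subgroup Sp) = ⊤ := by
  refine eq_top_iff.2 fun g _ x hx => ?_
  obtain ⟨k, hk, -⟩ := hx
  exact absurd k.2 (by omega)

theorem inW_iff {m : ℕ} {v : V} : InW m v ↔ ∀ x ∈ Out m, sf x v = 0 := by
  constructor
  · rintro h x ⟨k, hk, rfl | rfl⟩
    · rw [sf_ev, (h k hk).2, neg_zero]
    · rw [sf_fv, (h k hk).1]
  · intro h k hk
    have h1 := h _ ⟨k, hk, Or.inl rfl⟩
    have h2 := h _ ⟨k, hk, Or.inr rfl⟩
    rw [sf_ev, neg_eq_zero] at h1
    rw [sf_fv] at h2
    exact ⟨h2, h1⟩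

theorem inW_zero (m : ℕ) : InW m (0 : V) := fun _ _ => ⟨rfl, rfl⟩

theorem inW_add {m : ℕ} {v w : V} (hv : InW m v) (hw : InW m w) : InW m (v + w) := fun k hk => by
  simp [hv k hk, hw k hk]

theorem inW_smul {m : ℕ} {v : V} (c : F) (hv : InW m v) : InW m (c • v) := fun k hk => by
  simp [hv k hk]

theorem inW_neg {m : ℕ} {v : V} (hv : InW m v) : InW m (-v) := fun k hk => by simp [hv k hk]

theorem inW_mono {m m' : ℕ} (h : m ≤ m') {v : V} (hv : InW m v) : InW m' v :=
  fun k hk => hv k (h.trans hk)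

theorem inW_ev {m : ℕ} {k : Fin n} (h : (k : ℕ) < m) : InW m (ev k : V) := fun j hj => by
  have : j ≠ k := fun e => absurd hj (by rw [e]; omega)
  simp [ev, this]

theorem inW_fv {m : ℕ} {k : Fin n} (h : (k : ℕ) < m) : InW m (fv k : V) := fun j hj => by
  have : j ≠ k := fun e => absurd hj (by rw [e]; omega)
  simp [fv, this]

theorem inW_n (v : V) : InW n v := fun k hk => absurd k.2 (by omega)

theorem LG_inW {m : ℕ} {g : Sp} (hg : g ∈ LG m) {v : V} (hv : InW m v) : InW m (g • v) := by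
  rw [inW_iff] at hv ⊢
  intro x hx
  rw [← hg x hx, sf_smul_smul]
  exact hv x hx

theorem inW_not_mem_span {m : ℕ} {a : V} (ha : InW m a) (h0 : a ≠ 0) :
    a ∉ Submodule.span F (Out m) := by
  obtain ⟨i, hi⟩ : ∃ i, a i ≠ 0 := by
    by_contra h
    exact h0 (funext fun i => not_not.1 fun hi => h ⟨i, hi⟩)
  rcases i with k | k
  · have hk : (k : ℕ) < m := lt_of_not_ge fun h => hi (ha k h).1
    refine not_mem_span (z := fv k) (fun x hx => inW_iff.1 (inW_fv hk) x hx) ?_
    rw [sf_swap, sf_fv]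
    simpa using hi
  · have hk : (k : ℕ) < m := lt_of_not_ge fun h => hi (ha k h).2
    refine not_mem_span (z := ev k) (fun x hx => inW_iff.1 (inW_ev hk) x hx) ?_
    rw [sf_swap, sf_ev]
    simpa using hi

/-- `LG m` is transitive on the non-zero vectors of the inner space. -/
theorem exists_LG_move {m : ℕ} {a b : V} (ha : InW m a) (ha0 : a ≠ 0) (hb : InW m b)
    (hb0 : b ≠ 0) : ∃ g : Sp, g ∈ LG m ∧ g • a = b :=
  exists_fix_move (inW_not_mem_span ha ha0) (inW_not_mem_span hb hb0)
    fun x hx => by rw [inW_iff.1 ha x hx, inW_iff.1 hb x hx]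

/-- Transitivity on pairs with a given non-zero value of the form. -/
theorem exists_LG_move_pair {m : ℕ} {a b a' b' : V} (ha : InW m a) (hb : InW m b)
    (ha' : InW m a') (hb' : InW m b') (hab : sf a b ≠ 0) (h : sf a b = sf a' b') :
    ∃ g : Sp, g ∈ LG m ∧ g • a = a' ∧ g • b = b' := by
  have hab' : sf a' b' ≠ 0 := h ▸ hab
  have ha0 : a ≠ 0 := by rintro rfl; simp at hab
  have ha0' : a' ≠ 0 := by rintro rfl; simp at hab'
  obtain ⟨g, hg, hga⟩ := exists_LG_move ha ha0 ha' ha0'
  have horth : ∀ x : V, x ∈ (Out m : Set V) ∪ ({a'} : Set V) → sf x a' = 0 := by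
    rintro x (hx | rfl)
    · exact inW_iff.1 ha' x hx
    · exact sf_self _
  obtain ⟨k, hk, hkb⟩ := exists_fix_move (A := (Out m : Set V) ∪ ({a'} : Set V)) (a := g • b) (b := b')
    (not_mem_span horth (by rw [sf_swap, ← hga, sf_smul_smul]; simpa using hab))
    (not_mem_span horth (by rw [sf_swap]; simpa using hab')) (by
      rintro x (hx | rfl)
      · rw [inW_iff.1 (LG_inW hg hb) x hx, inW_iff.1 hb' x hx]
      · conv_lhs => rw [← hga, sf_smul_smul]
        exact h)
  exact ⟨k * g, mul_mem (fun x hx => hk x (Or.inl hx)) hg,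
    by rw [mul_smul, hga]; exact hk a' (Or.inr rfl), by rw [mul_smul, hkb]⟩

/-- Elements with complementary supports commute. -/
theorem commute_of_supp {m : ℕ} {g h : Sp} (hg : g ∈ LG m)
    (hh : ∀ k : Fin n, (k : ℕ) < m → h • (ev k : V) = ev k ∧ h • (fv k : V) = fv k) :
    Commute g h := by
  have hfix : ∀ x : V, InW m x → h • x = x := by
    intro x hx
    rw [pi_eq_sum_univ' x, Finset.smul_sum]
    refine Finset.sum_congr rfl fun i _ => ?_
    rw [smul_comm]
    rcases i with k | k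
    · by_cases hk : (k : ℕ) < m
      · exact congrArg (x (Sum.inl k) • ·) (hh k hk).1
      · simp [(hx k (by omega)).1]
    · by_cases hk : (k : ℕ) < m
      · exact congrArg (x (Sum.inr k) • ·) (hh k hk).2
      · simp [(hx k (by omega)).2]
  have hout : ∀ x ∈ (Out m : Set V), g • (h • x) = h • x := by
    intro x hx
    have hyW : ∀ j : Fin n, (j : ℕ) < m →
        (h • x) (Sum.inl j) = 0 ∧ (h • x) (Sum.inr j) = 0 := by
      intro j hj
      obtain ⟨k, hk, hxk⟩ := hx
      have hne : j ≠ k := fun e => by omega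
      constructor
      · rw [← sf_fv j (h • x)]
        conv_lhs => rw [← (hh j hj).2, sf_smul_smul]
        rcases hxk with rfl | rfl
        · exact sf_fv_ev_ne hne
        · exact sf_fv_fv j k
      · rw [← neg_eq_zero, ← sf_ev j (h • x)]
        conv_lhs => rw [← (hh j hj).1, sf_smul_smul]
        rcases hxk with rfl | rfl
        · exact sf_ev_ev j k
        · exact sf_ev_fv_ne hne
    rw [pi_eq_sum_univ' (h • x), Finset.smul_sum]
    refine Finset.sum_congr rfl fun i _ => ?_
    rw [smul_comm]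
    rcases i with j | j
    · by_cases hj : (j : ℕ) < m
      · simp [(hyW j hj).1]
      · exact congrArg ((h • x) (Sum.inl j) • ·) (hg _ ⟨j, by omega, Or.inl rfl⟩)
    · by_cases hj : (j : ℕ) < m
      · simp [(hyW j hj).2]
      · exact congrArg ((h • x) (Sum.inr j) • ·) (hg _ ⟨j, by omega, Or.inr rfl⟩)
  refine ext_basis (fun k => ?_) fun k => ?_
  · rw [mul_smul, mul_smul]
    by_cases hk : (k : ℕ) < m
    · rw [(hh k hk).1, hfix _ (LG_inW hg (inW_ev hk))]
    · rw [hout _ ⟨k, by omega, Or.inl rfl⟩, hg _ ⟨k, by omega, Or.inl rfl⟩]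
  · rw [mul_smul, mul_smul]
    by_cases hk : (k : ℕ) < m
    · rw [(hh k hk).2, hfix _ (LG_inW hg (inW_fv hk))]
    · rw [hout _ ⟨k, by omega, Or.inr rfl⟩, hg _ ⟨k, by omega, Or.inr rfl⟩]

/-- A field element avoiding two given values. -/
theorem exists_avoid_two (hF : ∃ a : F, a ≠ 0 ∧ a ≠ 1) (x y : F) : ∃ t : F, t ≠ x ∧ t ≠ y := by
  obtain ⟨a, ha0, ha1⟩ := hF
  by_contra h
  simp only [not_exists, not_and, not_not] at h
  have key : ∀ t : F, t = x ∨ t = y := fun t => (em (t = x)).imp id (h t)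
  rcases key 0 with h0 | h0 <;> rcases key 1 with h1 | h1 <;> rcases key a with h2 | h2 <;>
    first | exact ha0 (h2.trans h0.symm) | exact ha1 (h2.trans h1.symm) | exact zero_ne_one (h0.trans h1.symm)

/-- Three hyperplanes do not cover the inner space. -/
theorem exists_avoid_three (hF : ∃ a : F, a ≠ 0 ∧ a ≠ 1) {m : ℕ} {a b c : V} (ha : InW m a)
    (hb : InW m b) (hc : InW m c) (ha0 : a ≠ 0) (hb0 : b ≠ 0) (hc0 : c ≠ 0) :
    ∃ z : V, InW m z ∧ sf a z ≠ 0 ∧ sf b z ≠ 0 ∧ sf c z ≠ 0 := by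
  obtain ⟨z₀, h0, k1, k2⟩ := exists_sep₂ (inW_not_mem_span ha ha0) (inW_not_mem_span hb hb0)
  have hz₀ : InW m z₀ := inW_iff.2 fun x hx => h0 x (Submodule.subset_span hx)
  by_cases k3 : sf c z₀ = 0
  swap
  · exact ⟨z₀, hz₀, k1, k2, k3⟩
  obtain ⟨z₁, h1, l3⟩ := exists_sep (inW_not_mem_span hc hc0)
  have hz₁ : InW m z₁ := inW_iff.2 fun x hx => h1 x (Submodule.subset_span hx)
  obtain ⟨t, ht1, ht2⟩ := exists_avoid_two hF (-(sf a z₁) / sf a z₀) (-(sf b z₁) / sf b z₀)
  refine ⟨z₁ + t • z₀, inW_add hz₁ (inW_smul t hz₀), ?_, ?_, ?_⟩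
  · simp only [map_add, map_smul, smul_eq_mul]
    exact fun e => ht1 (by rw [eq_div_iff k1]; linear_combination e)
  · simp only [map_add, map_smul, smul_eq_mul]
    exact fun e => ht2 (by rw [eq_div_iff k2]; linear_combination e)
  · simp [k3, l3]

end H87.SpAm
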