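import Cfsg.Agent.H87.SpAm.Radical

/-!
# The map on the big cell

The elements moving `ev p` off its orthogonal complement have a decomposition
`radical * SS p * stabiliser`; the map so defined is multiplicative inside the big cell.
-/

set_option autoImplicit false
set_option linter.unusedVariables false

namespace H87.SpAm

open Matrix H48 H48.MinIdx

variable {n : ℕ} {F : Type*} [Field F] {H : Type*} [Group H]

local notation "V" => (Fin n ⊕ Fin n → F)
local notation "Sp" => Matrix.symplecticGroup (Fin n) F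

/-- The big cell. -/
def Ω (p : Fin n) : Set Sp :=
  {g | g ∈ LG ((p : ℕ) + 1) ∧ sf (ev p) (g • (ev p : V)) ≠ 0}

open scoped Classical in
/-- A chosen element of `SS p` sending `ev p` to a multiple of `fv p`. -/
noncomputable def sE (p : Fin n) (b : F) : Sp :=
  if h : ∃ s : Sp, s ∈ SS p ∧ s • (ev p : V) = b • fv p then h.choose else 1

/-- The coefficient of `fv p`. -/
noncomputable def cb (p : Fin n) (g : Sp) : F := (g • (ev p : V)) (Sum.inr p)

/-- The last parameter of the radical component. -/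
noncomputable def cc (p : Fin n) (g : Sp) : F :=
  -((g • (ev p : V)) (Sum.inl p)) * (cb p g)⁻¹

/-- The vector parameter of the radical component. -/
noncomputable def cv (p : Fin n) (g : Sp) : V :=
  (-(cb p g)⁻¹) • (g • ev p - (g • (ev p : V)) (Sum.inl p) • ev p - cb p g • fv p)

/-- The map on the big cell. -/
noncomputable def Φ0 (A : Amalg n F H) (φ : Sp → H) (p : Fin n) (g : Sp) : H :=
  B A φ p (cv p g) (cc p g) * A.σ p (sE p (cb p g)) *
    φP A φ p ((sE p (cb p g))⁻¹ * (pu (ev p) (cv p g) (cc p g))⁻¹ * g)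

theorem SS_commute_LG {p : Fin n} {s l : Sp} (hs : s ∈ SS p) (hl : l ∈ LG (p : ℕ)) :
    Commute l s :=
  commute_of_supp hl (SS_low le_rfl hs)

theorem sE_spec {p : Fin n} {b : F} (hb : b ≠ 0) :
    sE p b ∈ (SS p : Subgroup Sp) ∧ sE p b • (ev p : V) = b • fv p := by
  have h := exists_SS_move (InP_smul b (InP_fv p)) (smul_ne_zero hb (fv_ne_zero p))
  rw [sE, dif_pos h]
  exact h.choose_spec

theorem InP_smul_ev {p : Fin n} {s : Sp} (hs : s ∈ SS p) : InP p (s • ev p : V) := by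
  intro k hk
  obtain ⟨h1, h2⟩ := (mem_SS.1 hs) k hk
  have a := sf_smul_smul s (fv k : V) (ev p)
  have b := sf_smul_smul s (ev k : V) (ev p)
  rw [h2, sf_fv, sf_fv_ev_ne hk] at a
  rw [h1, sf_ev, sf_ev_ev, neg_eq_zero] at b
  exact ⟨a, b⟩

theorem InP_eq {p : Fin n} {w : V} (hw : InP p w) :
    w = w (Sum.inl p) • ev p + w (Sum.inr p) • fv p := funext fun i => by
  rcases i with k | k
  · by_cases hk : k = p
    · subst hk; simp [ev, fv]
    · simp [ev, fv, hk, (hw k hk).1]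
  · by_cases hk : k = p
    · subst hk; simp [ev, fv]
    · simp [ev, fv, hk, (hw k hk).2]

theorem pu_bf {p : Fin n} {v : V} (hv : InW (p : ℕ) v) (c b : F) :
    pu (ev p) v c • (b • fv p : V) = b • fv p - b • v - (b * c) • ev p := by
  rw [smul_comm, pu_fv hv, smul_sub, smul_sub, smul_smul]

theorem cell_coords {p : Fin n} {v : V} (hv : InW (p : ℕ) v) (c b : F) :
    (b • fv p - b • v - (b * c) • ev p : V) (Sum.inr p) = b ∧
      (b • fv p - b • v - (b * c) • ev p : V) (Sum.inl p) = -(b * c) := by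
  simp [fv, ev, (hv p le_rfl).1, (hv p le_rfl).2]

/-- Every element of the big cell decomposes. -/
theorem cell_exists {p : Fin n} {g : Sp} (hg : g ∈ Ω p) : ∃ (v : V) (c : F) (s : Sp) (b : F)
    (r : Sp), InW (p : ℕ) v ∧ b ≠ 0 ∧ s ∈ SS p ∧ s • (ev p : V) = b • fv p ∧ r ∈ PG p ∧
      g = pu (ev p) v c * s * r := by
  obtain ⟨hgL, hsf⟩ := hg
  rw [sf_ev, neg_ne_zero] at hsf
  have hW : InW ((p : ℕ) + 1) (g • ev p : V) := LG_inW hgL (inW_ev (Nat.lt_succ_self _))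
  have hv : InW (p : ℕ) (cv p g) := fun k hk => by
    by_cases hkp : k = p
    · subst hkp
      simp [cv, cb, ev, fv]
    · have h1 := hW k (Nat.lt_of_le_of_ne hk fun e => hkp (Fin.ext e.symm))
      simp only [cv, Pi.smul_apply, Pi.sub_apply, h1]
      simp [ev, fv, hkp]
  obtain ⟨hs, hse⟩ := sE_spec (p := p) (b := cb p g) hsf
  refine ⟨cv p g, cc p g, sE p (cb p g), cb p g,
    (sE p (cb p g))⁻¹ * (pu (ev p) (cv p g) (cc p g))⁻¹ * g, hv, hsf, hs, hse, ?_, by group⟩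
  intro x hx
  rcases hx with rfl | hx
  · rw [mul_smul, mul_smul, inv_smul_eq_iff, inv_smul_eq_iff, hse, pu_bf hv]
    have hb : cb p g * (cb p g)⁻¹ = 1 := mul_inv_cancel₀ hsf
    rw [cv, cc, smul_smul, mul_neg, hb]
    rw [show cb p g * (-(g • (ev p : V)) (Sum.inl p) * (cb p g)⁻¹) =
      -(g • (ev p : V)) (Sum.inl p) * (cb p g * (cb p g)⁻¹) by ring, hb]
    generalize g • (ev p : V) = w
    module
  · exact (mul_mem (mul_mem (inv_mem (SS_le_LG (Nat.lt_succ_self _) hs))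
      (inv_mem (PG_le_LG p (pu_mem_PG hv _)))) hgL) x hx

variable {A : Amalg n F H} {φ : ↥(Matrix.symplecticGroup (Fin n) F) → H} {p : Fin n}

theorem φP_pu_one (hφ : Good A (p : ℕ) φ) {v : V} (hv : InW (p : ℕ) v) (c : F) :
    φP A φ p (pu (ev p) v c) = B A φ p v c := by
  have h := φP_pu hφ hv c (Subgroup.one_mem _)
  rwa [mul_one, hφ.mul.one, mul_one] at h

variable (hF : ∃ a : F, a ≠ 0 ∧ a ≠ 1) (hφ : Good A (p : ℕ) φ)
include hF hφ

/-- The value of the map on a decomposed element. -/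
theorem cell_spec {v : V} (hv : InW (p : ℕ) v) (c : F) {b : F} (hb : b ≠ 0) {s : Sp}
    (hs : s ∈ SS p) (hse : s • (ev p : V) = b • fv p) {r : Sp} (hr : r ∈ PG p) :
    pu (ev p) v c * s * r ∈ Ω p ∧
      Φ0 A φ p (pu (ev p) v c * s * r) = B A φ p v c * A.σ p s * φP A φ p r := by
  have hsL : s ∈ LG ((p : ℕ) + 1) := SS_le_LG (Nat.lt_succ_self _) hs
  obtain ⟨k1, k2⟩ := cell_coords hv c b
  have hre : (pu (ev p) v c * s * r) • (ev p : V) = b • fv p - b • v - (b * c) • ev p := by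
    rw [mul_smul, mul_smul, hr _ (Set.mem_insert _ _), hse, pu_bf hv]
  refine ⟨⟨mul_mem (mul_mem (PG_le_LG p (pu_mem_PG hv c)) hsL) (PG_le_LG p hr), ?_⟩, ?_⟩
  · rw [hre, sf_ev, k1, neg_ne_zero]
    exact hb
  have eb : cb p (pu (ev p) v c * s * r) = b := by rw [cb, hre, k1]
  have ec : cc p (pu (ev p) v c * s * r) = c := by
    rw [cc, eb, hre, k2]
    field_simp
  have ev' : cv p (pu (ev p) v c * s * r) = v := by
    rw [cv, eb, hre, k2]
    rw [show b • fv p - b • v - (b * c) • ev p - (-(b * c)) • ev p - b • fv p = (-b) • v by module,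
      smul_smul, neg_mul_neg, inv_mul_cancel₀ hb, one_smul]
  obtain ⟨h1, h2⟩ := sE_spec (p := p) hb
  have ht : (sE p b)⁻¹ * s ∈ (SS p : Subgroup Sp) := mul_mem (inv_mem h1) hs
  have htP : (sE p b)⁻¹ * s ∈ (PG p : Subgroup Sp) := by
    intro x hx
    rcases hx with rfl | hx
    · rw [mul_smul, inv_smul_eq_iff, hse, h2]
    · exact SS_le_LG (Nat.lt_succ_self _) ht x hx
  rw [Φ0, eb, ec, ev', show (sE p b)⁻¹ * (pu (ev p) v c)⁻¹ * (pu (ev p) v c * s * r) =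
    (sE p b)⁻¹ * s * r by group, φP_mul hφ hF _ htP _ hr, φP_SS hφ ht htP,
    A.hσ p _ (inv_mem h1) _ hs, (A.hσ p).inv h1]
  group

theorem cell_right {g : Sp} (hg : g ∈ Ω p) {r : Sp} (hr : r ∈ PG p) :
    g * r ∈ Ω p ∧ Φ0 A φ p (g * r) = Φ0 A φ p g * φP A φ p r := by
  obtain ⟨v, c, s, b, r₀, hv, hb, hs, hse, hr₀, rfl⟩ := cell_exists hg
  obtain ⟨h1, h2⟩ := cell_spec hF hφ hv c hb hs hse (mul_mem hr₀ hr)
  rw [mul_assoc _ r₀ r, (cell_spec hF hφ hv c hb hs hse hr₀).2, h2, φP_mul hφ hF _ hr₀ _ hr]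
  exact ⟨h1, (mul_assoc _ _ _).symm⟩

theorem cell_left {g : Sp} (hg : g ∈ Ω p) {u : Sp} (hu : u ∈ PG p) :
    u * g ∈ Ω p ∧ Φ0 A φ p (u * g) = φP A φ p u * Φ0 A φ p g := by
  obtain ⟨v, c, s, b, r, hv, hb, hs, hse, hr, rfl⟩ := cell_exists hg
  obtain ⟨w, d, l, hw, hl, rfl⟩ : ∃ w d l, InW (p : ℕ) w ∧ l ∈ LG (p : ℕ) ∧
      u = pu (ev p) w d * l := ⟨_, _, _, pv_inW hu, pl_mem hu, pu_pl p u⟩
  have hlv := LG_inW hl hv
  have e : pu (ev p) w d * l * (pu (ev p) v c * s * r) =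
      pu (ev p) (w + l • v) (d + c + sf w (l • v)) * s * (l * r) := by
    rw [← pu_mul (sf_ev_inW hw) (sf_ev_inW hlv), ← pu_conj_one hv c (LG_fix_ev hl)]
    simp only [mul_assoc, inv_mul_cancel_left]
    rw [← mul_assoc s l r, ← (SS_commute_LG hs hl).eq, mul_assoc l s r, inv_mul_cancel_left]
  obtain ⟨h1, h2⟩ := cell_spec hF hφ (inW_add hw hlv) (d + c + sf w (l • v)) hb hs hse
    (mul_mem (LG_le_PG p hl) hr)
  rw [e, h2, (cell_spec hF hφ hv c hb hs hse hr).2, φP_pu hφ hw d hl,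
    φP_mul hφ hF _ (LG_le_PG p hl) _ hr, φP_LG hφ hl, ← B_mul hφ hF hw hlv, B_conj hφ hv c hl]
  refine ⟨h1, ?_⟩
  simp only [mul_assoc]
  rw [← mul_assoc (A.σ p s) (φ l), ← (commute_σ_LG hφ le_rfl hs hl).eq]
  group

theorem cell_SS {s : Sp} (hs : s ∈ SS p) (hsf : sf (ev p) (s • (ev p : V)) ≠ 0) :
    s ∈ Ω p ∧ Φ0 A φ p s = A.σ p s := by
  rw [sf_ev, neg_ne_zero] at hsf
  have hP := InP_eq (InP_smul_ev hs)
  generalize hb : (s • (ev p : V)) (Sum.inr p) = b at hsf hP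
  generalize ha : (s • (ev p : V)) (Sum.inl p) = a at hP
  have hc := pu_mem_SS (F := F) p (-a * b⁻¹)
  have hs' : (pu (ev p) 0 (-a * b⁻¹))⁻¹ * s ∈ (SS p : Subgroup Sp) := mul_mem (inv_mem hc) hs
  have hse : ((pu (ev p) 0 (-a * b⁻¹))⁻¹ * s) • (ev p : V) = b • fv p := by
    rw [mul_smul, inv_smul_eq_iff, pu_bf (inW_zero _), hP,
      show b * (-a * b⁻¹) = -a * (b * b⁻¹) by ring, mul_inv_cancel₀ hsf]
    module
  obtain ⟨h1, h2⟩ := cell_spec hF hφ (inW_zero _) (-a * b⁻¹) hsf hs' hse (Subgroup.one_mem _)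
  rw [mul_one, mul_inv_cancel_left] at h1 h2
  refine ⟨h1, ?_⟩
  rw [h2, B_zero hφ, (φP_mul hφ hF).one, mul_one, Zc, ← A.hσ p _ hc _ hs', mul_inv_cancel_left]

/-- The products through two elements of `SS p`. -/
theorem cell_middle {s s' : Sp} (hs : s ∈ SS p) (hs' : s' ∈ SS p) {w : V}
    (hw : InW (p : ℕ) w) (d : F) (hz : s * pu (ev p) w d * s' ∈ Ω p) :
    Φ0 A φ p (s * pu (ev p) w d * s') = A.σ p s * B A φ p w d * A.σ p s' := by
  rcases eq_or_ne w 0 with rfl | h0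
  · have hd := pu_mem_SS (F := F) p d
    rw [(cell_SS hF hφ (mul_mem (mul_mem hs hd) hs') hz.2).2, A.hσ p _ (mul_mem hs hd) _ hs',
      A.hσ p _ hs _ hd, B_zero hφ, Zc]
  obtain ⟨q, hq, l, hl, rfl⟩ := exists_rep hw h0
  have hqn : (q : ℕ) + 1 < n := by omega
  have hqp : q ≠ p := fun e => by subst e; omega
  have hX := pu_mem_MM_one (F := F) hq d
  have hwl : InW (p : ℕ) (ev q : V) := inW_ev (by omega)
  obtain ⟨z0, hz0⟩ : ∃ z, z = s * pu (ev p) (ev q) d * s' := ⟨_, rfl⟩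
  have ez : s * pu (ev p) (l • ev q) d * s' = l * z0 * l⁻¹ := by
    rw [hz0, ← pu_conj_one hwl d (LG_fix_ev hl)]
    have c1 := SS_commute_LG hs hl
    have c2 := (SS_commute_LG hs' hl).inv_left
    simp only [mul_assoc]
    rw [c2.eq, ← mul_assoc s l, ← c1.eq, mul_assoc]
  have hz0Ω : z0 ∈ Ω p := by
    have := (cell_right hF hφ (cell_left hF hφ hz (LG_le_PG p (inv_mem hl))).1 (LG_le_PG p hl)).1
    rwa [ez, show l⁻¹ * (l * z0 * l⁻¹) * l = z0 by group] at this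
  rw [ez, (cell_right hF hφ (cell_left hF hφ hz0Ω (LG_le_PG p hl)).1
    (LG_le_PG p (inv_mem hl))).2, (cell_left hF hφ hz0Ω (LG_le_PG p hl)).2, φP_LG hφ hl,
    φP_LG hφ (inv_mem hl), hφ.mul.inv hl, B_conj hφ hwl d hl]
  suffices h : Φ0 A φ p z0 = A.σ p s * B A φ p (ev q) d * A.σ p s' by
    rw [h]
    have c1 := commute_σ_LG hφ le_rfl hs hl
    have c2 := (commute_σ_LG hφ le_rfl hs' hl).inv_left
    simp only [mul_assoc]
    rw [← c2.eq, ← mul_assoc (φ l) (A.σ p s), c1.eq, mul_assoc]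
  have eB : B A φ p (ev q : V) d = A.μ q (pu (ev p) (ev q) d) := by
    have := B_smul_ev hφ hq (1 : F) d
    rwa [one_smul] at this
  obtain ⟨ψ, hψ, ha, hb⟩ := A.ms q p hqn
  have hJs : ∀ {t : Sp}, t ∈ SS p → t ∈ (MM q ⊔ SS p : Subgroup Sp) :=
    fun ht => Subgroup.mem_sup_right ht
  have hJm : ∀ {t : Sp}, t ∈ MM q → t ∈ (MM q ⊔ SS p : Subgroup Sp) :=
    fun ht => Subgroup.mem_sup_left ht
  have hT : ∀ t ∈ (MM q ⊔ SS p : Subgroup Sp), ∀ k : Fin n, k ≠ p →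
      t • (ev k : V) = ev k ∧ (k ≠ q → t • (fv k : V) = fv k) := by
    have hle : (MM q ⊔ SS p : Subgroup Sp) ≤
        fixS {x | ∃ k : Fin n, k ≠ p ∧ (x = ev k ∨ (k ≠ q ∧ x = fv k))} := by
      refine sup_le (fun t ht x => ?_) fun t ht x => ?_
      · rintro ⟨k, hk, rfl | ⟨hkq, rfl⟩⟩
        · exact (mem_MM.1 ht).1 k
        · exact (mem_MM.1 ht).2 k (fun e => hkq (Fin.ext e)) fun e => hk (Fin.ext (by omega))
      · rintro ⟨k, hk, rfl | ⟨hkq, rfl⟩⟩
        · exact (mem_SS.1 ht k hk).1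
        · exact (mem_SS.1 ht k hk).2
    exact fun t ht k hk => ⟨hle ht _ ⟨k, hk, Or.inl rfl⟩,
      fun hkq => hle ht _ ⟨k, hk, Or.inr ⟨hkq, rfl⟩⟩⟩
  have hzJ : z0 ∈ (MM q ⊔ SS p : Subgroup Sp) :=
    hz0 ▸ mul_mem (mul_mem (hJs hs) (hJm hX)) (hJs hs')
  obtain ⟨v, c, t, b, r, hv, hb0, ht, hte, hr, hdec⟩ := cell_exists hz0Ω
  obtain ⟨α, rfl⟩ : ∃ α : F, v = α • ev q := by
    have hze : z0 • (ev p : V) = b • fv p - b • v - (b * c) • ev p := by
      rw [hdec, mul_smul, mul_smul, hr _ (Set.mem_insert _ _), hte, pu_bf hv]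
    have hr' : ∀ k : Fin n, v (Sum.inr k) = 0 := fun k => by
      by_cases hk : k = p
      · exact (hv k (by rw [hk])).2
      have h := sf_smul_smul z0 (ev k : V) (ev p)
      rw [(hT z0 hzJ k hk).1, sf_ev_ev, hze, sf_ev, neg_eq_zero] at h
      simp only [Pi.sub_apply, Pi.smul_apply] at h
      simpa [fv, ev, hk, hb0] using h
    have hl' : ∀ k : Fin n, k ≠ q → v (Sum.inl k) = 0 := fun k hkq => by
      by_cases hk : k = p
      · exact (hv k (by rw [hk])).1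
      have h := sf_smul_smul z0 (fv k : V) (ev p)
      rw [(hT z0 hzJ k hk).2 hkq, sf_fv_ev_ne hk, hze, sf_fv] at h
      simp only [Pi.sub_apply, Pi.smul_apply] at h
      simpa [fv, ev, hk, hb0] using h
    refine ⟨v (Sum.inl q), funext fun i => ?_⟩
    rcases i with k | k
    · by_cases hk : k = q
      · subst hk; simp [ev]
      · simp [hl' k hk, ev, hk]
    · simp [hr' k, ev]
  have hu := pu_mem_MM (F := F) hq α c
  have hrJ : r ∈ (MM q ⊔ SS p : Subgroup Sp) := by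
    rw [show r = t⁻¹ * ((pu (ev p) (α • ev q) c)⁻¹ * z0) by rw [hdec]; group]
    exact mul_mem (inv_mem (hJs ht)) (mul_mem (inv_mem (hJm hu)) hzJ)
  have hrM : r ∈ MM q := by
    refine mem_MM.2 ⟨fun k => ?_, fun k h1 h2 => ?_⟩
    · by_cases hk : k = p
      · exact hk ▸ hr _ (Set.mem_insert _ _)
      · exact (hT r hrJ k hk).1
    · exact (hT r hrJ k fun e => h2 (by rw [e]; omega)).2 fun e => h1 (by rw [e])
  conv_lhs => rw [hdec]
  rw [(cell_spec hF hφ hv c hb0 ht hte hr).2, B_smul_ev hφ hq, (φP_MM hφ hq hrM).2, eB,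
    ← ha _ hu, ← ha _ hrM, ← ha _ hX, ← hb _ ht, ← hb _ hs, ← hb _ hs',
    ← hψ _ (hJm hu) _ (hJs ht), ← hψ _ (mul_mem (hJm hu) (hJs ht)) _ hrJ,
    ← hψ _ (hJs hs) _ (hJm hX), ← hψ _ (mul_mem (hJs hs) (hJm hX)) _ (hJs hs'),
    ← hdec, hz0]

/-- The map is multiplicative inside the big cell. -/
theorem cell_mul {x y : Sp} (hx : x ∈ Ω p) (hy : y ∈ Ω p) (hxy : x * y ∈ Ω p) :
    Φ0 A φ p (x * y) = Φ0 A φ p x * Φ0 A φ p y := by
  obtain ⟨v, c, s, b, r, hv, hb, hs, hse, hr, rfl⟩ := cell_exists hx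
  obtain ⟨v', c', s', b', r', hv', hb', hs', hse', hr', rfl⟩ := cell_exists hy
  have hu := pu_mem_PG hv c
  have hu' := pu_mem_PG hv' c'
  have hm : r * pu (ev p) v' c' ∈ PG p := mul_mem hr hu'
  obtain ⟨w, d, l, hw, hl, he⟩ : ∃ w d l, InW (p : ℕ) w ∧ l ∈ LG (p : ℕ) ∧
      r * pu (ev p) v' c' = pu (ev p) w d * l :=
    ⟨_, _, _, pv_inW hm, pl_mem hm, pu_pl p _⟩
  have hlr : l * r' ∈ PG p := mul_mem (LG_le_PG p hl) hr'
  have e : pu (ev p) v c * s * r * (pu (ev p) v' c' * s' * r') =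
      pu (ev p) v c * (s * pu (ev p) w d * s') * (l * r') := by
    calc pu (ev p) v c * s * r * (pu (ev p) v' c' * s' * r')
        = pu (ev p) v c * s * (r * pu (ev p) v' c') * s' * r' := by group
      _ = pu (ev p) v c * s * pu (ev p) w d * (l * s') * r' := by rw [he]; group
      _ = _ := by rw [(SS_commute_LG hs' hl).eq]; group
  rw [e] at hxy ⊢
  have hz : s * pu (ev p) w d * s' ∈ Ω p := by
    have := (cell_right hF hφ (cell_left hF hφ hxy (inv_mem hu)).1 (inv_mem hlr)).1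
    rwa [show (pu (ev p) v c)⁻¹ * (pu (ev p) v c * (s * pu (ev p) w d * s') * (l * r')) *
      (l * r')⁻¹ = s * pu (ev p) w d * s' by group] at this
  rw [(cell_right hF hφ (cell_left hF hφ hz hu).1 hlr).2, (cell_left hF hφ hz hu).2,
    cell_middle hF hφ hs hs' hw d hz, φP_pu_one hφ hv, φP_mul hφ hF _ (LG_le_PG p hl) _ hr',
    φP_LG hφ hl, (cell_spec hF hφ hv c hb hs hse hr).2,
    (cell_spec hF hφ hv' c' hb' hs' hse' hr').2]
  have key : φP A φ p r * B A φ p v' c' = B A φ p w d * φ l := by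
    rw [← φP_pu_one hφ hv', ← φP_mul hφ hF _ hr _ hu', he, φP_pu hφ hw d hl]
  simp only [mul_assoc]
  rw [← mul_assoc (φP A φ p r) (B A φ p v' c'), key, mul_assoc (B A φ p w d) (φ l),
    ← mul_assoc (φ l) (A.σ p s'), (commute_σ_LG hφ le_rfl hs' hl).eq, mul_assoc]

end H87.SpAm
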