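import Cfsg.Agent.H87.SpAm.Cell

/-!
# From the big cell to the whole group

The map on the big cell extends to a homomorphism on `LG (p + 1)`, and by induction to the
whole symplectic group.
-/

set_option autoImplicit false
set_option linter.unusedVariables false

namespace H87.SpAm

open Matrix H48 H48.MinIdx

variable {n : ℕ} {F : Type*} [Field F] {H : Type*} [Group H]

local notation "V" => (Fin n ⊕ Fin n → F)
local notation "Sp" => Matrix.symplecticGroup (Fin n) F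

/-- Four hyperplanes in special position do not cover the inner space. -/
theorem exists_avoid_four (hF : ∃ a : F, a ≠ 0 ∧ a ≠ 1) {m : ℕ} {e a b c : V} (he : InW m e)
    (ha : InW m a) (hb : InW m b) (hc : InW m c) (hea : sf e a ≠ 0) (heb : sf e b ≠ 0)
    (hab : sf a b = 0) (hc0 : c ≠ 0) :
    ∃ z : V, InW m z ∧ sf e z ≠ 0 ∧ sf a z ≠ 0 ∧ sf b z ≠ 0 ∧ sf c z ≠ 0 := by
  have he0 : e ≠ 0 := by rintro rfl; simp at hea
  have ha0 : a ≠ 0 := by rintro rfl; simp at hea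
  obtain ⟨z₀, hz₀, k1, k2, k4⟩ := exists_avoid_three hF he ha hc he0 ha0 hc0
  by_cases k3 : sf b z₀ = 0
  swap
  · exact ⟨z₀, hz₀, k1, k2, k3, k4⟩
  have hbn : b ∉ Submodule.span F (insert e (insert a (Out m : Set V))) := by
    intro h
    obtain ⟨α, x, hx, hbe⟩ := Submodule.mem_span_insert.1 h
    obtain ⟨β, o, ho, hxe⟩ := Submodule.mem_span_insert.1 hx
    have hoW : ∀ y : V, InW m y → sf o y = 0 := fun y hy => by
      have : Submodule.span F (Out m : Set V) ≤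
          LinearMap.ker ((sf : V →ₗ[F] V →ₗ[F] F).flip y) :=
        Submodule.span_le.2 fun t ht => inW_iff.1 hy t ht
      exact this ho
    have hba : sf b a = α * sf e a := by simp [hbe, hxe, hoW a ha]
    rw [sf_eq_zero_comm hab] at hba
    obtain rfl : α = 0 := (mul_eq_zero.1 hba.symm).resolve_right hea
    have hbz : sf b z₀ = β * sf a z₀ := by simp [hbe, hxe, hoW z₀ hz₀]
    rw [k3] at hbz
    obtain rfl : β = 0 := (mul_eq_zero.1 hbz.symm).resolve_right k2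
    have hbe0 : sf b e = 0 := by simp [hbe, hxe, hoW e he]
    exact heb (sf_eq_zero_comm hbe0)
  obtain ⟨d, hd, hbd⟩ := exists_sep hbn
  have hde : sf e d = 0 := hd e (Submodule.subset_span (Set.mem_insert _ _))
  have hda : sf a d = 0 :=
    hd a (Submodule.subset_span (Set.mem_insert_of_mem _ (Set.mem_insert _ _)))
  have hdW : InW m d := inW_iff.2 fun x hx =>
    hd x (Submodule.subset_span (Set.mem_insert_of_mem _ (Set.mem_insert_of_mem _ hx)))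
  obtain ⟨t, ht0, ht1⟩ := exists_avoid_two hF 0 (-(sf c z₀) / sf c d)
  refine ⟨z₀ + t • d, inW_add hz₀ (inW_smul t hdW), by simpa [hde] using k1,
    by simpa [hda] using k2, by simp [k3, ht0, hbd], ?_⟩
  simp only [map_add, map_smul, smul_eq_mul]
  by_cases hcd : sf c d = 0
  · simpa [hcd] using k4
  · exact fun e => ht1 (by rw [eq_div_iff hcd]; linear_combination e)

variable {p : Fin n}

theorem inW_ge {g : Sp} (hg : g ∈ LG ((p : ℕ) + 1)) : InW ((p : ℕ) + 1) (g • ev p : V) :=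
  LG_inW hg (inW_ev (Nat.lt_succ_self _))

theorem ge_ne_zero (g : Sp) (p : Fin n) : g • (ev p : V) ≠ 0 := fun h =>
  ev_ne_zero p (MulAction.injective g (h.trans (smul_zero g).symm))

theorem mem_Ω_inv_mul {x g : Sp} (hx : x ∈ LG ((p : ℕ) + 1)) (hg : g ∈ LG ((p : ℕ) + 1)) :
    x⁻¹ * g ∈ Ω p ↔ sf (x • (ev p : V)) (g • ev p) ≠ 0 := by
  rw [← sf_smul_smul x⁻¹, inv_smul_smul, ← mul_smul]
  exact ⟨fun h => h.2, fun h => ⟨mul_mem (inv_mem hx) hg, h⟩⟩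

theorem mem_Ω_inv {x : Sp} (hx : x ∈ Ω p) : x⁻¹ ∈ Ω p := by
  have h := (mem_Ω_inv_mul hx.1 (Subgroup.one_mem _)).2
    (by rw [one_smul, sf_swap, neg_ne_zero]; exact hx.2)
  rwa [mul_one] at h

theorem exists_Ω_at {z : V} (hz : InW ((p : ℕ) + 1) z) (he : sf (ev p) z ≠ 0) :
    ∃ x : Sp, x ∈ Ω p ∧ x • (ev p : V) = z := by
  have hz0 : z ≠ 0 := by rintro rfl; simp at he
  obtain ⟨x, hx, hxz⟩ := exists_LG_move (inW_ev (k := p) (Nat.lt_succ_self _)) (ev_ne_zero p) hz hz0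
  exact ⟨x, ⟨hx, by rw [hxz]; exact he⟩, hxz⟩

/-- Two elements factor through the big cell at once. -/
theorem exists_split (hF : ∃ a : F, a ≠ 0 ∧ a ≠ 1) {g h : Sp} (hg : g ∈ LG ((p : ℕ) + 1))
    (hh : h ∈ LG ((p : ℕ) + 1)) : ∃ x : Sp, x ∈ Ω p ∧ x⁻¹ * g ∈ Ω p ∧ x⁻¹ * h ∈ Ω p := by
  obtain ⟨z, hz, k1, k2, k3⟩ := exists_avoid_three hF (inW_ev (k := p) (Nat.lt_succ_self _))
    (inW_ge hg) (inW_ge hh) (ev_ne_zero p) (ge_ne_zero g p) (ge_ne_zero h p)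
  obtain ⟨x, hx, rfl⟩ := exists_Ω_at hz k1
  exact ⟨x, hx, (mem_Ω_inv_mul hx.1 hg).2 (by rw [sf_swap, neg_ne_zero]; exact k2),
    (mem_Ω_inv_mul hx.1 hh).2 (by rw [sf_swap, neg_ne_zero]; exact k3)⟩

open scoped Classical in
/-- The map on `LG (p + 1)`. -/
noncomputable def Φ1 (A : Amalg n F H) (φ : Sp → H) (p : Fin n) (g : Sp) : H :=
  if h : ∃ x : Sp, x ∈ Ω p ∧ x⁻¹ * g ∈ Ω p then
    Φ0 A φ p h.choose * Φ0 A φ p (h.choose⁻¹ * g) else 1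

variable {A : Amalg n F H} {φ : ↥(Matrix.symplecticGroup (Fin n) F) → H}
variable (hF : ∃ a : F, a ≠ 0 ∧ a ≠ 1) (hφ : Good A (p : ℕ) φ)
include hF hφ

/-- A change of factorisation inside the big cell. -/
theorem split_step {g x y : Sp} (hx : x ∈ Ω p) (hxg : x⁻¹ * g ∈ Ω p) (hy : y ∈ Ω p)
    (hyg : y⁻¹ * g ∈ Ω p) (ha : x⁻¹ * y ∈ Ω p) :
    Φ0 A φ p x * Φ0 A φ p (x⁻¹ * g) = Φ0 A φ p y * Φ0 A φ p (y⁻¹ * g) := by
  have e1 : x⁻¹ * g = x⁻¹ * y * (y⁻¹ * g) := by group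
  have e2 : y = x * (x⁻¹ * y) := by group
  rw [e1] at hxg ⊢
  rw [cell_mul hF hφ ha hyg hxg]
  conv_rhs => arg 1; rw [e2, cell_mul hF hφ hx ha (e2 ▸ hy)]
  rw [mul_assoc]

theorem split_indep {g x y : Sp} (hg : g ∈ LG ((p : ℕ) + 1)) (hx : x ∈ Ω p)
    (hxg : x⁻¹ * g ∈ Ω p) (hy : y ∈ Ω p) (hyg : y⁻¹ * g ∈ Ω p) :
    Φ0 A φ p x * Φ0 A φ p (x⁻¹ * g) = Φ0 A φ p y * Φ0 A φ p (y⁻¹ * g) := by
  by_cases ha : sf (x • (ev p : V)) (y • ev p) = 0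
  swap
  · exact split_step hF hφ hx hxg hy hyg ((mem_Ω_inv_mul hx.1 hy.1).2 ha)
  obtain ⟨z, hz, k1, k2, k3, k4⟩ := exists_avoid_four hF (inW_ev (k := p) (Nat.lt_succ_self _))
    (inW_ge hx.1) (inW_ge hy.1) (inW_ge hg) hx.2 hy.2 ha (ge_ne_zero g p)
  obtain ⟨w, hw, rfl⟩ := exists_Ω_at hz k1
  have hwg : w⁻¹ * g ∈ Ω p :=
    (mem_Ω_inv_mul hw.1 hg).2 (by rw [sf_swap, neg_ne_zero]; exact k4)
  rw [split_step hF hφ hx hxg hw hwg ((mem_Ω_inv_mul hx.1 hw.1).2 k2),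
    split_step hF hφ hy hyg hw hwg ((mem_Ω_inv_mul hy.1 hw.1).2 k3)]

theorem Φ1_eq {g x : Sp} (hg : g ∈ LG ((p : ℕ) + 1)) (hx : x ∈ Ω p) (hxg : x⁻¹ * g ∈ Ω p) :
    Φ1 A φ p g = Φ0 A φ p x * Φ0 A φ p (x⁻¹ * g) := by
  have h : ∃ x : Sp, x ∈ Ω p ∧ x⁻¹ * g ∈ Ω p := ⟨x, hx, hxg⟩
  rw [Φ1, dif_pos h]
  exact split_indep hF hφ hg h.choose_spec.1 h.choose_spec.2 hx hxg

theorem Φ1_Ω {g : Sp} (hg : g ∈ Ω p) : Φ1 A φ p g = Φ0 A φ p g := by
  obtain ⟨x, hx, hxg, -⟩ := exists_split hF hg.1 hg.1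
  rw [Φ1_eq hF hφ hg.1 hx hxg, ← cell_mul hF hφ hx hxg (by rwa [mul_inv_cancel_left]),
    mul_inv_cancel_left]

theorem Φ1_mul_Ω {g y : Sp} (hg : g ∈ LG ((p : ℕ) + 1)) (hy : y ∈ Ω p) :
    Φ1 A φ p (g * y) = Φ1 A φ p g * Φ0 A φ p y := by
  obtain ⟨x, hx, hxg, hxgy⟩ := exists_split hF hg (mul_mem hg hy.1)
  rw [Φ1_eq hF hφ (mul_mem hg hy.1) hx hxgy, Φ1_eq hF hφ hg hx hxg, mul_assoc,
    ← cell_mul hF hφ hxg hy (by rwa [mul_assoc]), mul_assoc x⁻¹ g y]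

theorem Φ1_mul : MulOn (Φ1 A φ p) (LG ((p : ℕ) + 1)) := by
  intro a ha b hb
  obtain ⟨x, hx, hxb, -⟩ := exists_split hF hb hb
  calc Φ1 A φ p (a * b) = Φ1 A φ p (a * x * (x⁻¹ * b)) := by congr 1; group
    _ = Φ1 A φ p a * Φ0 A φ p x * Φ0 A φ p (x⁻¹ * b) := by
      rw [Φ1_mul_Ω hF hφ (mul_mem ha hx.1) hxb, Φ1_mul_Ω hF hφ ha hx]
    _ = Φ1 A φ p a * Φ1 A φ p b := by rw [Φ1_eq hF hφ hb hx hxb, mul_assoc]

theorem Φ1_PG {g : Sp} (hg : g ∈ PG p) : Φ1 A φ p g = φP A φ p g := by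
  have hgL := PG_le_LG p hg
  obtain ⟨x, hx, -, -⟩ := exists_split hF hgL hgL
  obtain ⟨h1, h2⟩ := cell_right hF hφ (mem_Ω_inv hx) hg
  rw [Φ1_eq hF hφ hgL hx h1, h2, ← mul_assoc, ← Φ1_Ω hF hφ hx, ← Φ1_Ω hF hφ (mem_Ω_inv hx),
    ← Φ1_mul hF hφ _ hx.1 _ (inv_mem hx.1), mul_inv_cancel, (Φ1_mul hF hφ).one, one_mul]

theorem Φ1_SS {g : Sp} (hg : g ∈ SS p) : Φ1 A φ p g = A.σ p g := by
  have key : ∀ t ∈ (SS p : Subgroup Sp), sf (ev p) (t • (ev p : V)) ≠ 0 →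
      Φ1 A φ p t = A.σ p t := fun t ht h => by
    obtain ⟨h1, h2⟩ := cell_SS hF hφ ht h
    rw [Φ1_Ω hF hφ h1, h2]
  by_cases h : sf (ev p) (g • (ev p : V)) = 0
  swap
  · exact key g hg h
  obtain ⟨s, hs, hse⟩ := exists_SS_move (InP_fv (F := F) p) (fv_ne_zero p)
  have hs' : sf (ev p) (s • (ev p : V)) ≠ 0 := by rw [hse, sf_ev_fv]; simp
  have hsg : sf (ev p) ((s⁻¹ * g) • (ev p : V)) ≠ 0 := by
    rw [← sf_smul_smul s, hse, mul_smul, smul_inv_smul, sf_fv]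
    intro h0
    have hP := InP_eq (InP_smul_ev hg)
    rw [sf_ev, neg_eq_zero] at h
    rw [h0, h, zero_smul, zero_smul, add_zero] at hP
    exact ge_ne_zero g p hP
  have hsgS : s⁻¹ * g ∈ (SS p : Subgroup Sp) := mul_mem (inv_mem hs) hg
  calc Φ1 A φ p g = Φ1 A φ p (s * (s⁻¹ * g)) := by rw [mul_inv_cancel_left]
    _ = A.σ p s * A.σ p (s⁻¹ * g) := by
      rw [Φ1_mul hF hφ _ (SS_le_LG (Nat.lt_succ_self _) hs) _
        (SS_le_LG (Nat.lt_succ_self _) hsgS), key s hs hs', key _ hsgS hsg]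
    _ = A.σ p g := by rw [← A.hσ p _ hs _ hsgS, mul_inv_cancel_left]

theorem LG_le_closure :
    (LG ((p : ℕ) + 1) : Subgroup Sp) ≤ Subgroup.closure (GenSet ((p : ℕ) + 1)) := by
  have hP := PG_le_closure (hφ.gen p le_rfl)
  have hΩ : ∀ g ∈ (Ω p : Set Sp), g ∈ Subgroup.closure (GenSet ((p : ℕ) + 1)) := by
    intro g hg
    obtain ⟨v, c, s, b, r, hv, hb, hs, hse, hr, rfl⟩ := cell_exists hg
    exact mul_mem (mul_mem (hP (pu_mem_PG hv c))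
      (Subgroup.subset_closure (Or.inl ⟨p, Nat.lt_succ_self _, hs⟩))) (hP hr)
  intro g hg
  obtain ⟨x, hx, hxg, -⟩ := exists_split hF hg hg
  rw [show g = x * (x⁻¹ * g) by group]
  exact mul_mem (hΩ x hx) (hΩ _ hxg)

/-- One step of the induction. -/
theorem good_succ : Good A ((p : ℕ) + 1) (Φ1 A φ p) where
  mul := Φ1_mul hF hφ
  eqσ j hj g hg := by
    rcases Nat.lt_succ_iff_lt_or_eq.1 hj with h | h
    · rw [Φ1_PG hF hφ (LG_le_PG p (SS_le_LG h hg)), φP_LG hφ (SS_le_LG h hg), hφ.eqσ j h g hg]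
    · obtain rfl : j = p := Fin.ext h
      exact Φ1_SS hF hφ hg
  eqμ i hi g hg := by
    rcases Nat.lt_succ_iff_lt_or_eq.1 hi with h | h
    · rw [Φ1_PG hF hφ (LG_le_PG p (MM_le_LG h hg)), φP_LG hφ (MM_le_LG h hg), hφ.eqμ i h g hg]
    · obtain ⟨h1, h2⟩ := φP_MM hφ h hg
      rw [Φ1_PG hF hφ h1, h2]
  gen k hk := by
    rcases Nat.le_succ_iff.1 hk with h | h
    · exact hφ.gen k h
    · subst h
      exact LG_le_closure hF hφ

omit hφ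

theorem exists_good (A : Amalg n F H) : ∀ m ≤ n, ∃ φ : Sp → H, Good A m φ := by
  intro m
  induction m with
  | zero =>
    intro _
    refine ⟨fun _ => 1, ⟨fun a _ b _ => (mul_one 1).symm, fun j hj => absurd hj (by omega),
      fun i hi => absurd hi (by omega), fun k hk g hg => ?_⟩⟩
    obtain rfl : k = 0 := by omega
    obtain rfl : g = 1 := ext_basis
      (fun j => by rw [one_smul]; exact hg _ ⟨j, by omega, Or.inl rfl⟩)
      fun j => by rw [one_smul]; exact hg _ ⟨j, by omega, Or.inr rfl⟩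
    exact Subgroup.one_mem _
  | succ m ih =>
    intro hm
    obtain ⟨φ, hφ⟩ := ih (by omega)
    exact ⟨_, good_succ (p := ⟨m, by omega⟩) hF hφ⟩

end H87.SpAm
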