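import Cfsg.Agent.H87.SpAm.Base

/-!
# Amalgam data and the extension to a point stabiliser

`Amalg` records maps on the subgroups `SS j` (SL₂ of the `j`-th hyperbolic plane) and `MM i`
(symmetric unipotents on two adjacent indices) which extend to the pairwise joins.
A map which is multiplicative on `LG p` and agrees with the data extends to `PG p`.
-/

set_option autoImplicit false
set_option linter.unusedVariables false

namespace H87.SpAm

open Matrix H48 H48.MinIdx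

variable {n : ℕ} {F : Type*} [Field F]

local notation "V" => (Fin n ⊕ Fin n → F)
local notation "Sp" => Matrix.symplecticGroup (Fin n) F

/-- Multiplicativity on a subgroup. -/
def MulOn {G H : Type*} [Group G] [Group H] (f : G → H) (K : Subgroup G) : Prop :=
  ∀ a ∈ K, ∀ b ∈ K, f (a * b) = f a * f b

section MulOn

variable {G H : Type*} [Group G] [Group H] {f : G → H} {K : Subgroup G}

theorem MulOn.one (hf : MulOn f K) : f 1 = 1 := by
  have := hf 1 K.one_mem 1 K.one_mem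
  rwa [mul_one, left_eq_mul] at this

theorem MulOn.inv (hf : MulOn f K) {a : G} (ha : a ∈ K) : f a⁻¹ = (f a)⁻¹ :=
  eq_inv_of_mul_eq_one_left (by rw [← hf _ (inv_mem ha) _ ha, inv_mul_cancel, hf.one])

theorem MulOn.commute (hf : MulOn f K) {a b : G} (ha : a ∈ K) (hb : b ∈ K) (h : Commute a b) :
    Commute (f a) (f b) := by
  show f a * f b = f b * f a
  rw [← hf _ ha _ hb, h.eq, hf _ hb _ ha]

theorem MulOn.commute_closure (hf : MulOn f K) {T : Set G} (hT : T ⊆ K) {x : H}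
    (hx : ∀ t ∈ T, Commute (f t) x) : ∀ g ∈ Subgroup.closure T, Commute (f g) x := by
  intro g hg
  suffices h : g ∈ K ∧ Commute (f g) x from h.2
  induction hg using Subgroup.closure_induction with
  | mem t ht => exact ⟨hT ht, hx t ht⟩
  | one => exact ⟨K.one_mem, by rw [hf.one]; exact Commute.one_left x⟩
  | mul a b _ _ ha hb =>
    exact ⟨mul_mem ha.1 hb.1, by rw [hf _ ha.1 _ hb.1]; exact ha.2.mul_left hb.2⟩
  | inv a _ ha => exact ⟨inv_mem ha.1, by rw [hf.inv ha.1]; exact ha.2.inv_left⟩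

end MulOn

/-- The set fixed by `SS j`. -/
def SSet (j : Fin n) : Set V := {x | ∃ k : Fin n, k ≠ j ∧ (x = ev k ∨ x = fv k)}

/-- The `SL₂` of the `j`-th hyperbolic plane. -/
def SS (j : Fin n) : Subgroup Sp := fixS (SSet j)

/-- The set fixed by `MM i`. -/
def MSet (i : Fin n) : Set V :=
  {x | ∃ k : Fin n, x = ev k ∨ ((k : ℕ) ≠ i ∧ (k : ℕ) ≠ (i : ℕ) + 1 ∧ x = fv k)}

/-- The symmetric unipotents on the indices `i`, `i + 1`. -/
def MM (i : Fin n) : Subgroup Sp := fixS (MSet i)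

/-- The stabiliser of `ev p` in `LG (p + 1)`. -/
def PG (p : Fin n) : Subgroup Sp := fixS (insert (ev p) (Out ((p : ℕ) + 1)))

theorem mem_SS {j : Fin n} {g : Sp} : g ∈ SS j ↔
    ∀ k : Fin n, k ≠ j → g • (ev k : V) = ev k ∧ g • (fv k : V) = fv k :=
  ⟨fun h k hk => ⟨h _ ⟨k, hk, Or.inl rfl⟩, h _ ⟨k, hk, Or.inr rfl⟩⟩,
    fun h x ⟨k, hk, hx⟩ => by rcases hx with rfl | rfl <;> [exact (h k hk).1; exact (h k hk).2]⟩

theorem mem_MM {i : Fin n} {g : Sp} : g ∈ MM i ↔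
    (∀ k : Fin n, g • (ev k : V) = ev k) ∧
      ∀ k : Fin n, (k : ℕ) ≠ i → (k : ℕ) ≠ (i : ℕ) + 1 → g • (fv k : V) = fv k :=
  ⟨fun h => ⟨fun k => h _ ⟨k, Or.inl rfl⟩, fun k h1 h2 => h _ ⟨k, Or.inr ⟨h1, h2, rfl⟩⟩⟩,
    fun h x ⟨k, hx⟩ => by
      rcases hx with rfl | ⟨h1, h2, rfl⟩
      · exact h.1 k
      · exact h.2 k h1 h2⟩

theorem SS_le_LG {j : Fin n} {m : ℕ} (h : (j : ℕ) < m) : (SS j : Subgroup Sp) ≤ LG m :=
  fixS_antitone fun _ ⟨k, hk, hx⟩ => ⟨k, fun e => by subst e; omega, hx⟩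

theorem MM_le_LG {i : Fin n} {m : ℕ} (h : (i : ℕ) + 1 < m) : (MM i : Subgroup Sp) ≤ LG m :=
  fixS_antitone fun _ ⟨k, hk, hx⟩ =>
    ⟨k, hx.elim Or.inl fun e => Or.inr ⟨by omega, by omega, e⟩⟩

theorem SS_low {j : Fin n} {m : ℕ} (h : m ≤ (j : ℕ)) {g : Sp} (hg : g ∈ SS j) :
    ∀ k : Fin n, (k : ℕ) < m → g • (ev k : V) = ev k ∧ g • (fv k : V) = fv k :=
  fun k hk => mem_SS.1 hg k fun e => by subst e; omega

theorem MM_low {i : Fin n} {m : ℕ} (h : m ≤ (i : ℕ)) {g : Sp} (hg : g ∈ MM i) :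
    ∀ k : Fin n, (k : ℕ) < m → g • (ev k : V) = ev k ∧ g • (fv k : V) = fv k :=
  fun k hk => ⟨(mem_MM.1 hg).1 k, (mem_MM.1 hg).2 k (by omega) (by omega)⟩

/-- The amalgam data. -/
structure Amalg (n : ℕ) (F : Type*) [Field F] (H : Type*) [Group H] where
  /-- the maps on the hyperbolic planes -/
  σ : Fin n → Matrix.symplecticGroup (Fin n) F → H
  /-- the maps on the symmetric unipotents -/
  μ : Fin n → Matrix.symplecticGroup (Fin n) F → H
  ss : ∀ j l : Fin n, j ≠ l → ∃ ψ : Matrix.symplecticGroup (Fin n) F → H,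
    MulOn ψ (SS j ⊔ SS l) ∧ (∀ g ∈ (SS j : Subgroup (Matrix.symplecticGroup (Fin n) F)), ψ g = σ j g) ∧
      ∀ g ∈ (SS l : Subgroup (Matrix.symplecticGroup (Fin n) F)), ψ g = σ l g
  mm : ∀ i i' : Fin n, i ≠ i' → (i : ℕ) + 1 < n → (i' : ℕ) + 1 < n →
    ∃ ψ : Matrix.symplecticGroup (Fin n) F → H,
    MulOn ψ (MM i ⊔ MM i') ∧ (∀ g ∈ (MM i : Subgroup (Matrix.symplecticGroup (Fin n) F)), ψ g = μ i g) ∧
      ∀ g ∈ (MM i' : Subgroup (Matrix.symplecticGroup (Fin n) F)), ψ g = μ i' g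
  ms : ∀ i j : Fin n, (i : ℕ) + 1 < n → ∃ ψ : Matrix.symplecticGroup (Fin n) F → H,
    MulOn ψ (MM i ⊔ SS j) ∧ (∀ g ∈ (MM i : Subgroup (Matrix.symplecticGroup (Fin n) F)), ψ g = μ i g) ∧
      ∀ g ∈ (SS j : Subgroup (Matrix.symplecticGroup (Fin n) F)), ψ g = σ j g
  hσ : ∀ j : Fin n, MulOn (σ j) (SS j)

variable {H : Type*} [Group H] {A : Amalg n F H}

/-- The generators below `m`. -/
def GenSet (m : ℕ) : Set Sp :=
  {g | (∃ j : Fin n, (j : ℕ) < m ∧ g ∈ SS j) ∨ ∃ i : Fin n, (i : ℕ) + 1 < m ∧ g ∈ MM i}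

theorem GenSet_mono {m m' : ℕ} (h : m ≤ m') : (GenSet m : Set Sp) ⊆ GenSet m' := by
  rintro g (⟨j, hj, hg⟩ | ⟨i, hi, hg⟩)
  · exact Or.inl ⟨j, by omega, hg⟩
  · exact Or.inr ⟨i, by omega, hg⟩

theorem GenSet_subset (m : ℕ) : (GenSet m : Set Sp) ⊆ (LG m : Subgroup Sp) := by
  rintro g (⟨j, hj, hg⟩ | ⟨i, hi, hg⟩)
  · exact SS_le_LG hj hg
  · exact MM_le_LG hi hg

/-- A map on `LG m` extending the data below `m`, with generation. -/
structure Good (A : Amalg n F H) (m : ℕ) (φ : Sp → H) : Prop where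
  mul : MulOn φ (LG m)
  eqσ : ∀ j : Fin n, (j : ℕ) < m → ∀ g ∈ (SS j : Subgroup Sp), φ g = A.σ j g
  eqμ : ∀ i : Fin n, (i : ℕ) + 1 < m → ∀ g ∈ (MM i : Subgroup Sp), φ g = A.μ i g
  gen : ∀ k : ℕ, k ≤ m → (LG k : Subgroup Sp) ≤ Subgroup.closure (GenSet k)

/-- The data agree on intersections. -/
theorem agree {i j : Fin n} (hi : (i : ℕ) + 1 < n) {g : Sp} (h1 : g ∈ MM i) (h2 : g ∈ SS j) :
    A.μ i g = A.σ j g := by
  obtain ⟨ψ, -, ha, hb⟩ := A.ms i j hi
  rw [← ha g h1, hb g h2]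

theorem commute_σμ {i j : Fin n} (hi : (i : ℕ) + 1 < n) {g h : Sp} (hg : g ∈ SS j) (hh : h ∈ MM i)
    (hc : Commute g h) : Commute (A.σ j g) (A.μ i h) := by
  obtain ⟨ψ, hψ, ha, hb⟩ := A.ms i j hi
  rw [← ha h hh, ← hb g hg]
  exact hψ.commute (Subgroup.mem_sup_right hg) (Subgroup.mem_sup_left hh) hc

theorem commute_σσ {j l : Fin n} (hjl : j ≠ l) {g h : Sp} (hg : g ∈ SS j) (hh : h ∈ SS l)
    (hc : Commute g h) : Commute (A.σ j g) (A.σ l h) := by
  obtain ⟨ψ, hψ, ha, hb⟩ := A.ss j l hjl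
  rw [← ha g hg, ← hb h hh]
  exact hψ.commute (Subgroup.mem_sup_left hg) (Subgroup.mem_sup_right hh) hc

theorem commute_μμ {i i' : Fin n} (hne : i ≠ i') (hi : (i : ℕ) + 1 < n) (hi' : (i' : ℕ) + 1 < n)
    {g h : Sp} (hg : g ∈ MM i) (hh : h ∈ MM i') (hc : Commute g h) :
    Commute (A.μ i g) (A.μ i' h) := by
  obtain ⟨ψ, hψ, ha, hb⟩ := A.mm i i' hne hi hi'
  rw [← ha g hg, ← hb h hh]
  exact hψ.commute (Subgroup.mem_sup_left hg) (Subgroup.mem_sup_right hh) hc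

theorem mulOn_μ {i : Fin n} (hi : (i : ℕ) + 1 < n) : MulOn (A.μ i) (MM i) := by
  obtain ⟨ψ, hψ, ha, -⟩ := A.ms i i hi
  intro a h1 b h2
  rw [← ha _ (mul_mem h1 h2), ← ha a h1, ← ha b h2]
  exact hψ a (Subgroup.mem_sup_left h1) b (Subgroup.mem_sup_left h2)

/-- The images of `LG p` commute with those of the upper generators. -/
theorem commute_σ_LG {m : ℕ} {φ : Sp → H} (hφ : Good A m φ) {j : Fin n} (hj : m ≤ (j : ℕ))
    {h : Sp} (hh : h ∈ SS j) {g : Sp} (hg : g ∈ LG m) : Commute (φ g) (A.σ j h) := by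
  refine hφ.mul.commute_closure (GenSet_subset m) ?_ g (hφ.gen m le_rfl hg)
  intro t ht
  have hc : Commute t h := commute_of_supp (GenSet_subset m ht) (SS_low hj hh)
  rcases ht with ⟨k, hk, ht⟩ | ⟨i, hi, ht⟩
  · rw [hφ.eqσ k hk t ht]
    exact commute_σσ (fun e => by subst e; omega) ht hh hc
  · rw [hφ.eqμ i hi t ht]
    exact (commute_σμ (by omega) hh ht hc.symm).symm

theorem commute_μ_LG {m : ℕ} {φ : Sp → H} (hφ : Good A m φ) {j : Fin n} (hj : m ≤ (j : ℕ))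
    (hjn : (j : ℕ) + 1 < n) {h : Sp} (hh : h ∈ MM j) {g : Sp} (hg : g ∈ LG m) :
    Commute (φ g) (A.μ j h) := by
  refine hφ.mul.commute_closure (GenSet_subset m) ?_ g (hφ.gen m le_rfl hg)
  intro t ht
  have hc : Commute t h := commute_of_supp (GenSet_subset m ht) (MM_low hj hh)
  rcases ht with ⟨k, hk, ht⟩ | ⟨i, hi, ht⟩
  · rw [hφ.eqσ k hk t ht]
    exact commute_σμ hjn ht hh hc
  · rw [hφ.eqμ i hi t ht]
    exact commute_μμ (fun e => by subst e; omega) (by omega) hjn ht hh hc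

section Radical

theorem sf_ev_inW {p : Fin n} {v : V} (hv : InW (p : ℕ) v) : sf (ev p) v = 0 := by
  rw [sf_ev, (hv p le_rfl).2, neg_zero]

theorem ev_ne_zero (p : Fin n) : (ev p : V) ≠ 0 := fun h => by
  have := congrFun h (Sum.inl p)
  simp [ev] at this

theorem fv_ne_zero (p : Fin n) : (fv p : V) ≠ 0 := fun h => by
  have := congrFun h (Sum.inr p)
  simp [fv] at this

/-- Radical elements fix what they should. -/
theorem pu_fix {p : Fin n} {v : V} (hv : InW (p : ℕ) v) (c : F) {x : V}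
    (h1 : sf (ev p) x = 0) (h2 : sf v x = 0) : pu (ev p) v c • x = x := by
  rw [pu_smul (sf_ev_inW hv), h1, h2]
  simp

theorem pu_fv {p : Fin n} {v : V} (hv : InW (p : ℕ) v) (c : F) :
    pu (ev p) v c • (fv p : V) = fv p - v - c • ev p := by
  have h2 : sf v (fv p : V) = 0 := by
    rw [sf_swap, sf_fv, (hv p le_rfl).1, neg_zero]
  rw [pu_smul (sf_ev_inW hv), sf_ev_fv, h2]
  simp [sub_eq_add_neg]

theorem pu_mem_PG {p : Fin n} {v : V} (hv : InW (p : ℕ) v) (c : F) :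
    pu (ev p) v c ∈ (PG p : Subgroup Sp) := by
  intro x hx
  rcases hx with rfl | ⟨k, hk, hx⟩
  · exact pu_smul_self (sf_ev_inW hv) c
  refine pu_fix hv c ?_ ?_
  · rcases hx with rfl | rfl
    · exact sf_ev_ev p k
    · exact sf_ev_fv_ne (fun e => by subst e; omega)
  · exact sf_eq_zero_comm (inW_iff.1 hv x ⟨k, by omega, hx⟩)

theorem pu_mem_SS (p : Fin n) (c : F) : pu (ev p) 0 c ∈ (SS p : Subgroup Sp) := by
  intro x hx
  obtain ⟨k, hk, hx⟩ := hx
  refine pu_fix (inW_zero _) c ?_ (by simp)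
  rcases hx with rfl | rfl
  · exact sf_ev_ev p k
  · exact sf_ev_fv_ne (Ne.symm hk)

theorem pu_mem_MM {q p : Fin n} (hqp : (q : ℕ) + 1 = p) (a c : F) :
    pu (ev p) (a • ev q) c ∈ (MM q : Subgroup Sp) := by
  have hv : InW (p : ℕ) (a • ev q : V) := inW_smul a (inW_ev (by omega))
  refine mem_MM.2 ⟨fun k => pu_fix hv c (sf_ev_ev p k) (by simp [sf_ev_ev]), fun k h1 h2 => ?_⟩
  refine pu_fix hv c (sf_ev_fv_ne fun e => by subst e; omega) ?_
  simp [sf_ev_fv_ne (n := n) (F := F) (j := q) (k := k) fun e => by subst e; exact h1 rfl]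

theorem pu_mem_MM_zero {q p : Fin n} (hqp : (q : ℕ) + 1 = p) (c : F) :
    pu (ev p) 0 c ∈ (MM q : Subgroup Sp) := by
  have := pu_mem_MM (F := F) hqp 0 c
  rwa [zero_smul] at this

theorem pu_mem_MM_self (q : Fin n) (c : F) : pu (ev q) 0 c ∈ (MM q : Subgroup Sp) :=
  mem_MM.2 ⟨fun k => pu_fix (inW_zero _) c (sf_ev_ev q k) (by simp), fun k h1 h2 =>
    pu_fix (inW_zero _) c (sf_ev_fv_ne fun e => by subst e; exact h1 rfl) (by simp)⟩

/-- The Levi factor, the radical parameters. -/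
noncomputable def pc (p : Fin n) (g : Sp) : F := - (g • (fv p : V)) (Sum.inl p)

/-- The vector parameter. -/
noncomputable def pv (p : Fin n) (g : Sp) : V :=
  fv p + (g • (fv p : V)) (Sum.inl p) • ev p - g • fv p

/-- The Levi component. -/
noncomputable def pl (p : Fin n) (g : Sp) : Sp := (pu (ev p) (pv p g) (pc p g))⁻¹ * g

theorem pv_inW {p : Fin n} {g : Sp} (hg : g ∈ PG p) : InW (p : ℕ) (pv p g) := by
  have hfix : ∀ x : V, g • x = x → sf x (g • (fv p : V)) = sf x (fv p) := fun x hx => by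
    conv_lhs => rw [← hx, sf_smul_smul]
  intro k hk
  by_cases hkp : k = p
  · subst hkp
    have h1 := hfix _ (hg _ (Set.mem_insert _ _))
    rw [sf_ev_fv, sf_ev, neg_inj] at h1
    refine ⟨?_, ?_⟩
    · simp [pv, ev, fv]
    · simp only [pv, Pi.sub_apply, Pi.add_apply, Pi.smul_apply, h1]
      simp [ev, fv]
  · have hk' : (p : ℕ) + 1 ≤ (k : ℕ) :=
      Nat.lt_of_le_of_ne hk fun e => hkp (Fin.ext e.symm)
    have h1 := hfix _ (hg _ (Set.mem_insert_of_mem _ ⟨k, hk', Or.inl rfl⟩))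
    have h2 := hfix _ (hg _ (Set.mem_insert_of_mem _ ⟨k, hk', Or.inr rfl⟩))
    rw [sf_ev_fv_ne hkp, sf_ev, neg_eq_zero] at h1
    rw [sf_fv_fv, sf_fv] at h2
    simp only [pv, Pi.sub_apply, Pi.add_apply, Pi.smul_apply, h1, h2]
    simp [ev, fv, hkp]

theorem pu_pl (p : Fin n) (g : Sp) : g = pu (ev p) (pv p g) (pc p g) * pl p g := by
  rw [pl, mul_inv_cancel_left]

theorem pl_mem {p : Fin n} {g : Sp} (hg : g ∈ PG p) : pl p g ∈ LG (p : ℕ) := by
  have hv := pv_inW hg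
  have hP : pl p g ∈ PG p := mul_mem (inv_mem (pu_mem_PG hv _)) hg
  rintro x ⟨k, hk, hx⟩
  by_cases hkp : k = p
  · subst hkp
    rcases hx with rfl | rfl
    · exact hP _ (Set.mem_insert _ _)
    · rw [pl, mul_smul, inv_smul_eq_iff, pu_fv hv]
      simp only [pv, pc]
      generalize g • (fv k : V) = w
      module
  · exact hP _ (Set.mem_insert_of_mem _
      ⟨k, Nat.lt_of_le_of_ne hk fun e => hkp (Fin.ext e.symm), hx⟩)

theorem LG_le_PG (p : Fin n) : (LG (p : ℕ) : Subgroup Sp) ≤ PG p := by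
  intro g hg x hx
  rcases hx with rfl | hx
  · exact hg _ ⟨p, le_rfl, Or.inl rfl⟩
  · exact hg x (Out_anti (Nat.le_succ _) hx)

theorem PG_le_LG (p : Fin n) : (PG p : Subgroup Sp) ≤ LG ((p : ℕ) + 1) :=
  fixS_antitone (Set.subset_insert _ _)

theorem decomp_eq {p : Fin n} {v : V} (hv : InW (p : ℕ) v) (c : F) {l : Sp}
    (hl : l ∈ LG (p : ℕ)) : pv p (pu (ev p) v c * l) = v ∧ pc p (pu (ev p) v c * l) = c ∧
      pl p (pu (ev p) v c * l) = l := by
  have hf : (pu (ev p) v c * l) • (fv p : V) = fv p - v - c • ev p := by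
    rw [mul_smul, hl _ ⟨p, le_rfl, Or.inr rfl⟩, pu_fv hv]
  have hco : (fv p - v - c • ev p : V) (Sum.inl p) = -c := by
    simp [fv, ev, (hv p le_rfl).1]
  have e1 : pv p (pu (ev p) v c * l) = v := by
    rw [pv, hf, hco]
    module
  have e2 : pc p (pu (ev p) v c * l) = c := by rw [pc, hf, hco, neg_neg]
  exact ⟨e1, e2, by rw [pl, e1, e2, inv_mul_cancel_left]⟩

theorem pu_conj_one {p : Fin n} {v : V} (hv : InW (p : ℕ) v) (c : F) {g : Sp}
    (hg : g • (ev p : V) = ev p) : g * pu (ev p) v c * g⁻¹ = pu (ev p) (g • v) c := by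
  rw [pu_conj (sf_ev_inW hv) c one_ne_zero (by rw [one_smul, hg]), one_smul, one_mul, one_mul]

theorem commute_pu {p : Fin n} {v : V} (hv : InW (p : ℕ) v) (c : F) {g : Sp}
    (hg : g • (ev p : V) = ev p) (hgv : g • v = v) : Commute (pu (ev p) v c) g := by
  have h := pu_conj_one hv c hg
  rw [hgv, mul_inv_eq_iff_eq_mul] at h
  exact h.symm

/-- Vectors supported on one index. -/
def InP (q : Fin n) (w : V) : Prop :=
  ∀ k : Fin n, k ≠ q → w (Sum.inl k) = 0 ∧ w (Sum.inr k) = 0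

theorem sf_SSet_InP {q : Fin n} {w : V} (hw : InP q w) {x : V} (hx : x ∈ SSet q) :
    sf x w = 0 := by
  obtain ⟨k, hk, rfl | rfl⟩ := hx
  · rw [sf_ev, (hw k hk).2, neg_zero]
  · rw [sf_fv, (hw k hk).1]

theorem InP_not_mem {q : Fin n} {w : V} (hw : InP q w) (h0 : w ≠ 0) :
    w ∉ Submodule.span F (SSet q) := by
  obtain ⟨i, hi⟩ : ∃ i, w i ≠ 0 := by
    by_contra h
    exact h0 (funext fun i => not_not.1 fun hi => h ⟨i, hi⟩)
  rcases i with k | k
  · obtain rfl : k = q := by_contra fun h => hi (hw k h).1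
    refine not_mem_span (z := fv k) ?_ (by rw [sf_swap, sf_fv]; simpa using hi)
    rintro x ⟨j, hj, rfl | rfl⟩
    · exact sf_ev_fv_ne hj
    · exact sf_fv_fv j k
  · obtain rfl : k = q := by_contra fun h => hi (hw k h).2
    refine not_mem_span (z := ev k) ?_ (by rw [sf_swap, sf_ev]; simpa using hi)
    rintro x ⟨j, hj, rfl | rfl⟩
    · exact sf_ev_ev j k
    · exact sf_fv_ev_ne hj

theorem InP_ev (q : Fin n) : InP q (ev q : V) := fun k hk => by simp [ev, hk]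

theorem InP_fv (q : Fin n) : InP q (fv q : V) := fun k hk => by simp [fv, hk]

theorem InP_smul {q : Fin n} (a : F) {w : V} (hw : InP q w) : InP q (a • w) :=
  fun k hk => by simp [hw k hk]

theorem InP_add {q : Fin n} {v w : V} (hv : InP q v) (hw : InP q w) : InP q (v + w) :=
  fun k hk => by simp [hv k hk, hw k hk]

theorem InP_inW {q : Fin n} {m : ℕ} (h : (q : ℕ) < m) {w : V} (hw : InP q w) : InW m w :=
  fun k hk => hw k fun e => by subst e; omega

theorem exists_SS_move {q : Fin n} {w : V} (hw : InP q w) (h0 : w ≠ 0) :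
    ∃ s : Sp, s ∈ SS q ∧ s • (ev q : V) = w :=
  exists_fix_move (InP_not_mem (InP_ev q) (ev_ne_zero q)) (InP_not_mem hw h0)
    fun x hx => by rw [sf_SSet_InP (InP_ev q) hx, sf_SSet_InP hw hx]

/-- The stabiliser is generated below. -/
theorem PG_le_closure {p : Fin n}
    (hgen : (LG (p : ℕ) : Subgroup Sp) ≤ Subgroup.closure (GenSet (p : ℕ))) :
    (PG p : Subgroup Sp) ≤ Subgroup.closure (GenSet ((p : ℕ) + 1)) := by
  intro g hg
  have hlow : ∀ l ∈ (LG (p : ℕ) : Subgroup Sp), l ∈ Subgroup.closure (GenSet ((p : ℕ) + 1)) :=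
    fun l hl => Subgroup.closure_mono (GenSet_mono (Nat.le_succ _)) (hgen hl)
  rw [pu_pl p g]
  refine mul_mem ?_ (hlow _ (pl_mem hg))
  have hv := pv_inW hg
  have hzero : ∀ c : F, pu (ev p) 0 c ∈ Subgroup.closure (GenSet ((p : ℕ) + 1)) :=
    fun c => Subgroup.subset_closure (Or.inl ⟨p, Nat.lt_succ_self _, pu_mem_SS p c⟩)
  rcases eq_or_ne (pv p g) 0 with h0 | h0
  · rw [h0]
    exact hzero _
  have hp : 0 < (p : ℕ) := by
    by_contra hp
    exact h0 (funext fun i => by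
      rcases i with k | k
      · exact (hv k (by omega)).1
      · exact (hv k (by omega)).2)
  obtain ⟨q, hq⟩ : ∃ q : Fin n, (q : ℕ) + 1 = p :=
    ⟨⟨(p : ℕ) - 1, by omega⟩, by simp; omega⟩
  obtain ⟨l, hl, hlv⟩ := exists_LG_move (inW_ev (F := F) (k := q) (m := p) (by omega))
    (ev_ne_zero q) hv h0
  rw [← hlv, ← pu_conj_one (inW_ev (by omega)) _ (hl _ ⟨p, le_rfl, Or.inl rfl⟩)]
  refine mul_mem (mul_mem (hlow l hl) ?_) (inv_mem (hlow l hl))
  refine Subgroup.subset_closure (Or.inr ⟨q, by omega, ?_⟩)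
  have := pu_mem_MM (F := F) hq 1 (pc p g)
  rwa [one_smul] at this

/-- Elements of the previous stabiliser commute with the next unipotents. -/
theorem commute_PG {p q : Fin n} (hq : (q : ℕ) + 1 = p) {φ : Sp → H} (hφ : Good A (p : ℕ) φ)
    {a : Sp} (ha : a ∈ MM q) {g : Sp} (hg : g ∈ PG q) : Commute (φ g) (A.μ q a) := by
  have hqn : (q : ℕ) + 1 < n := by omega
  have hL : (LG (q : ℕ) : Subgroup Sp) ≤ LG (p : ℕ) := LG_mono (by omega)
  have hP : (PG q : Subgroup Sp) ≤ LG (p : ℕ) := by rw [← hq]; exact PG_le_LG q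
  have hlow : ∀ l ∈ (LG (q : ℕ) : Subgroup Sp), Commute (φ l) (A.μ q a) := by
    intro l hl
    have hS : ∀ t ∈ (GenSet (q : ℕ) : Set Sp), Commute (φ t) (A.μ q a) := by
      intro t ht
      have hc : Commute t a := commute_of_supp (GenSet_subset _ ht) (MM_low le_rfl ha)
      rcases ht with ⟨k, hk, ht⟩ | ⟨i, hi, ht⟩
      · rw [hφ.eqσ k (by omega) t ht]
        exact commute_σμ hqn ht ha hc
      · rw [hφ.eqμ i (by omega) t ht]
        exact commute_μμ (fun e => by subst e; omega) (by omega) hqn ht ha hc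
    have hsub : (GenSet (q : ℕ) : Set Sp) ⊆ (LG (p : ℕ) : Subgroup Sp) :=
      fun t ht => hL (GenSet_subset _ ht)
    refine hφ.mul.commute_closure hsub hS l ?_
    suffices h : (LG (q : ℕ) : Subgroup Sp) ≤ Subgroup.closure (GenSet (q : ℕ)) from h hl
    exact hφ.gen q (by omega)
  have hqa : a • (ev q : V) = ev q := (mem_MM.1 ha).1 q
  have hv := pv_inW hg
  have hu : pu (ev q) (pv q g) (pc q g) ∈ (PG q : Subgroup Sp) := pu_mem_PG hv _
  rw [pu_pl q g, hφ.mul _ (hP hu) _ (hL (pl_mem hg))]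
  refine Commute.mul_left ?_ (hlow _ (pl_mem hg))
  rcases eq_or_ne (pv q g) 0 with h0 | h0
  · rw [h0, hφ.eqσ q (by omega) _ (pu_mem_SS q _), ← agree hqn (pu_mem_MM_self q _) (pu_mem_SS q _)]
    exact (mulOn_μ hqn).commute (pu_mem_MM_self q _) ha
      (commute_pu (inW_zero _) _ hqa (smul_zero a))
  have hq0 : 0 < (q : ℕ) := by
    by_contra hq0
    exact h0 (funext fun i => by
      rcases i with k | k
      · exact (hv k (by omega)).1
      · exact (hv k (by omega)).2)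
  obtain ⟨r, hr⟩ : ∃ r : Fin n, (r : ℕ) + 1 = q :=
    ⟨⟨(q : ℕ) - 1, by omega⟩, by simp; omega⟩
  obtain ⟨l, hl, hlv⟩ := exists_LG_move (inW_ev (F := F) (k := r) (m := q) (by omega))
    (ev_ne_zero r) hv h0
  have hmem : pu (ev q) (ev r) (pc q g) ∈ (MM r : Subgroup Sp) := by
    have := pu_mem_MM (F := F) hr 1 (pc q g)
    rwa [one_smul] at this
  have hmemL : pu (ev q) (ev r) (pc q g) ∈ (LG (p : ℕ) : Subgroup Sp) :=
    MM_le_LG (by omega) hmem
  rw [← hlv, ← pu_conj_one (inW_ev (by omega)) _ (hl _ ⟨q, le_rfl, Or.inl rfl⟩),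
    hφ.mul _ (mul_mem (hL hl) hmemL) _ (inv_mem (hL hl)), hφ.mul _ (hL hl) _ hmemL,
    hφ.mul.inv (hL hl), hφ.eqμ r (by omega) _ hmem]
  refine ((hlow l hl).mul_left ?_).mul_left (hlow l hl).inv_left
  exact commute_μμ (fun e => by subst e; omega) (by omega) hqn hmem ha
    (commute_pu (inW_ev (by omega)) _ hqa ((mem_MM.1 ha).1 r))

end Radical

end H87.SpAm
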