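import Cfsg.Agent.H87.SpAm.Partial

/-!
# The map on the radical of a point stabiliser

A map which is good below `p` extends to the stabiliser `PG p` of `ev p`.
-/

set_option autoImplicit false
set_option linter.unusedVariables false

namespace H87.SpAm

open Matrix H48 H48.MinIdx

variable {n : ℕ} {F : Type*} [Field F] {H : Type*} [Group H]

local notation "V" => (Fin n ⊕ Fin n → F)
local notation "Sp" => Matrix.symplecticGroup (Fin n) F

/-- The images of the long root elements. -/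
noncomputable def Zc (A : Amalg n F H) (p : Fin n) (c : F) : H := A.σ p (pu (ev p) 0 c)

open scoped Classical in
/-- The images of the radical elements with vanishing last parameter. -/
noncomputable def Bv (A : Amalg n F H) (φ : Sp → H) (p : Fin n) (v : V) : H :=
  if h : ∃ ql : Fin n × Sp, (ql.1 : ℕ) + 1 = p ∧ ql.2 ∈ (LG (p : ℕ) : Subgroup Sp) ∧
      ql.2 • (ev ql.1 : V) = v then
    φ h.choose.2 * A.μ h.choose.1 (pu (ev p) (ev h.choose.1) 0) * (φ h.choose.2)⁻¹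
  else 1

/-- The images of the radical elements. -/
noncomputable def B (A : Amalg n F H) (φ : Sp → H) (p : Fin n) (v : V) (c : F) : H :=
  Bv A φ p v * Zc A p c

/-- The extension to the stabiliser. -/
noncomputable def φP (A : Amalg n F H) (φ : Sp → H) (p : Fin n) (g : Sp) : H :=
  B A φ p (pv p g) (pc p g) * φ (pl p g)

theorem LG_fix_ev {p : Fin n} {g : Sp} (hg : g ∈ LG (p : ℕ)) : g • (ev p : V) = ev p :=
  hg _ ⟨p, le_rfl, Or.inl rfl⟩

theorem LG_fix_fv {p : Fin n} {g : Sp} (hg : g ∈ LG (p : ℕ)) : g • (fv p : V) = fv p :=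
  hg _ ⟨p, le_rfl, Or.inr rfl⟩

theorem exists_pred {p : Fin n} {v : V} (hv : InW (p : ℕ) v) (h0 : v ≠ 0) :
    ∃ q : Fin n, (q : ℕ) + 1 = p := by
  have hp : 0 < (p : ℕ) := by
    by_contra hp
    exact h0 (funext fun i => by
      rcases i with k | k
      · exact (hv k (by omega)).1
      · exact (hv k (by omega)).2)
  exact ⟨⟨(p : ℕ) - 1, by omega⟩, by simp; omega⟩

theorem exists_rep {p : Fin n} {v : V} (hv : InW (p : ℕ) v) (h0 : v ≠ 0) :
    ∃ q : Fin n, (q : ℕ) + 1 = p ∧ ∃ l : Sp, l ∈ LG (p : ℕ) ∧ l • (ev q : V) = v := by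
  obtain ⟨q, hq⟩ := exists_pred hv h0
  exact ⟨q, hq, exists_LG_move (inW_ev (by omega)) (ev_ne_zero q) hv h0⟩

theorem pu_mem_MM_one {q p : Fin n} (hqp : (q : ℕ) + 1 = p) (c : F) :
    pu (ev p) (ev q) c ∈ (MM q : Subgroup Sp) := by
  have := pu_mem_MM (F := F) hqp 1 c
  rwa [one_smul] at this

variable {A : Amalg n F H} {φ : ↥(Matrix.symplecticGroup (Fin n) F) → H} {p : Fin n}

theorem Zc_zero : Zc A p (0 : F) = 1 := by rw [Zc, pu_zero]; exact (A.hσ p).one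

theorem Zc_add (c d : F) : Zc A p (c + d) = Zc A p c * Zc A p d := by
  rw [Zc, Zc, Zc, ← A.hσ p _ (pu_mem_SS p c) _ (pu_mem_SS p d), pu_mul (map_zero _) (map_zero _)]
  simp

theorem Zc_eq_μ {q : Fin n} (hq : (q : ℕ) + 1 = p) (c : F) :
    A.μ q (pu (ev p) 0 c) = Zc A p c :=
  agree (by omega) (pu_mem_MM_zero hq c) (pu_mem_SS p c)

variable (hφ : Good A (p : ℕ) φ)
include hφ

theorem commute_Zc {g : Sp} (hg : g ∈ LG (p : ℕ)) (c : F) : Commute (φ g) (Zc A p c) :=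
  commute_σ_LG hφ le_rfl (pu_mem_SS p c) hg

theorem Bv_zero : Bv A φ p (0 : V) = 1 := by
  rw [Bv, dif_neg]
  rintro ⟨⟨q, l⟩, -, -, h⟩
  exact ev_ne_zero q (MulAction.injective l (h.trans (smul_zero l).symm))

theorem Bv_eq {q : Fin n} (hq : (q : ℕ) + 1 = p) {l : Sp} (hl : l ∈ LG (p : ℕ)) :
    Bv A φ p (l • ev q) = φ l * A.μ q (pu (ev p) (ev q) 0) * (φ l)⁻¹ := by
  have h : ∃ ql : Fin n × Sp, (ql.1 : ℕ) + 1 = p ∧ ql.2 ∈ (LG (p : ℕ) : Subgroup Sp) ∧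
      ql.2 • (ev ql.1 : V) = l • ev q := ⟨(q, l), hq, hl, rfl⟩
  rw [Bv, dif_pos h]
  obtain ⟨h1, h2, h3⟩ := h.choose_spec
  generalize h.choose = ql at h1 h2 h3 ⊢
  obtain ⟨q', l'⟩ := ql
  dsimp only at h1 h2 h3 ⊢
  obtain rfl : q' = q := Fin.ext (by omega)
  have hm : l⁻¹ * l' ∈ (LG (p : ℕ) : Subgroup Sp) := mul_mem (inv_mem hl) h2
  have hP : l⁻¹ * l' ∈ (PG q' : Subgroup Sp) := by
    intro x hx
    rcases hx with rfl | ⟨k, hk, hx⟩
    · rw [mul_smul, h3, inv_smul_smul]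
    · exact hm x ⟨k, by omega, hx⟩
  have hc := commute_PG hq hφ (pu_mem_MM_one hq 0) hP
  have e : φ l' = φ l * φ (l⁻¹ * l') := by rw [← hφ.mul _ hl _ hm, mul_inv_cancel_left]
  rw [e, _root_.mul_inv_rev, mul_assoc (φ l), hc.eq]
  group

theorem Bv_conj {v : V} (hv : InW (p : ℕ) v) {g : Sp} (hg : g ∈ LG (p : ℕ)) :
    Bv A φ p (g • v) = φ g * Bv A φ p v * (φ g)⁻¹ := by
  rcases eq_or_ne v 0 with rfl | h0
  · simp [Bv_zero hφ]
  obtain ⟨q, hq, l, hl, rfl⟩ := exists_rep hv h0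
  rw [← mul_smul, Bv_eq hφ hq (mul_mem hg hl), Bv_eq hφ hq hl, hφ.mul _ hg _ hl]
  group

theorem commute_Bv_Zc {v : V} (hv : InW (p : ℕ) v) (c : F) :
    Commute (Bv A φ p v) (Zc A p c) := by
  rcases eq_or_ne v 0 with rfl | h0
  · rw [Bv_zero hφ]
    exact Commute.one_left _
  obtain ⟨q, hq, l, hl, rfl⟩ := exists_rep hv h0
  rw [Bv_eq hφ hq hl]
  have h := commute_Zc hφ hl c
  refine (h.mul_left ?_).mul_left h.inv_left
  rw [← Zc_eq_μ hq]
  exact (mulOn_μ (by omega)).commute (pu_mem_MM_one hq 0) (pu_mem_MM_zero hq c)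
    (commute_pu (inW_zero _) c ((mem_MM.1 (pu_mem_MM_one hq 0)).1 p) (smul_zero _)).symm

theorem B_conj {v : V} (hv : InW (p : ℕ) v) (c : F) {g : Sp} (hg : g ∈ LG (p : ℕ)) :
    B A φ p (g • v) c = φ g * B A φ p v c * (φ g)⁻¹ := by
  rw [B, B, Bv_conj hφ hv hg, mul_assoc, (commute_Zc hφ hg c).inv_left.eq]
  group

theorem B_zero (c : F) : B A φ p (0 : V) c = Zc A p c := by rw [B, Bv_zero hφ, one_mul]

/-- On one plane everything is given by the amalgam. -/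
theorem Bv_InP {q : Fin n} (hq : (q : ℕ) + 1 = p) {ψ : Sp → H} (hψ : MulOn ψ (MM q ⊔ SS q))
    (ha : ∀ g ∈ (MM q : Subgroup Sp), ψ g = A.μ q g)
    (hb : ∀ g ∈ (SS q : Subgroup Sp), ψ g = A.σ q g) {w : V} (hw : InP q w) :
    pu (ev p) w 0 ∈ (MM q ⊔ SS q : Subgroup Sp) ∧ Bv A φ p w = ψ (pu (ev p) w 0) := by
  rcases eq_or_ne w 0 with rfl | h0
  · rw [pu_zero, hψ.one, Bv_zero hφ]
    exact ⟨Subgroup.one_mem _, rfl⟩
  obtain ⟨s, hs, rfl⟩ := exists_SS_move hw h0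
  have hsL : s ∈ LG (p : ℕ) := SS_le_LG (by omega) hs
  have hX := pu_mem_MM_one (F := F) hq 0
  have hsJ : s ∈ (MM q ⊔ SS q : Subgroup Sp) := Subgroup.mem_sup_right hs
  have hXJ : pu (ev p) (ev q) 0 ∈ (MM q ⊔ SS q : Subgroup Sp) := Subgroup.mem_sup_left hX
  rw [← pu_conj_one (inW_ev (by omega)) 0 (LG_fix_ev hsL)]
  refine ⟨mul_mem (mul_mem hsJ hXJ) (inv_mem hsJ), ?_⟩
  rw [Bv_eq hφ hq hsL, hψ _ (mul_mem hsJ hXJ) _ (inv_mem hsJ), hψ _ hsJ _ hXJ, hψ.inv hsJ,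
    ha _ hX, hb _ hs, hφ.eqσ q (by omega) s hs]

theorem Bv_mul_InP {q : Fin n} (hq : (q : ℕ) + 1 = p) {v w : V} (hv : InP q v) (hw : InP q w) :
    Bv A φ p v * Bv A φ p w = Bv A φ p (v + w) * Zc A p (sf v w) := by
  obtain ⟨ψ, hψ, ha, hb⟩ := A.ms q q (by omega)
  have hvp : InW (p : ℕ) v := InP_inW (by omega) hv
  have hwp : InW (p : ℕ) w := InP_inW (by omega) hw
  obtain ⟨m1, e1⟩ := Bv_InP hφ hq hψ ha hb hv
  obtain ⟨m2, e2⟩ := Bv_InP hφ hq hψ ha hb hw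
  obtain ⟨m3, e3⟩ := Bv_InP hφ hq hψ ha hb (InP_add hv hw)
  have h4 := pu_mem_MM_zero (F := F) hq (sf v w)
  rw [e1, e2, e3, ← Zc_eq_μ hq, ← ha _ h4, ← hψ _ m1 _ m2,
    ← hψ _ m3 _ (Subgroup.mem_sup_left h4), pu_mul (sf_ev_inW hvp) (sf_ev_inW hwp),
    pu_mul (sf_ev_inW (inW_add hvp hwp)) (map_zero _)]
  simp

theorem Bv_mul_transport {v w : V} (hv : InW (p : ℕ) v) (hw : InW (p : ℕ) w) {g : Sp}
    (hg : g ∈ LG (p : ℕ))
    (h : Bv A φ p v * Bv A φ p w = Bv A φ p (v + w) * Zc A p (sf v w)) :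
    Bv A φ p (g • v) * Bv A φ p (g • w) =
      Bv A φ p (g • v + g • w) * Zc A p (sf (g • v) (g • w)) := by
  rw [← smul_add, sf_smul_smul, Bv_conj hφ hv hg, Bv_conj hφ hw hg,
    Bv_conj hφ (inW_add hv hw) hg]
  calc φ g * Bv A φ p v * (φ g)⁻¹ * (φ g * Bv A φ p w * (φ g)⁻¹)
      = φ g * (Bv A φ p v * Bv A φ p w) * (φ g)⁻¹ := by group
    _ = φ g * (Bv A φ p (v + w) * Zc A p (sf v w)) * (φ g)⁻¹ := by rw [h]
    _ = φ g * Bv A φ p (v + w) * (φ g)⁻¹ * Zc A p (sf v w) := by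
      rw [mul_assoc, mul_assoc (Bv A φ p (v + w)), ← (commute_Zc hφ hg (sf v w)).inv_left.eq]
      group

/-- The commutator relation in the radical. -/
theorem Bv_mul (hF : ∃ a : F, a ≠ 0 ∧ a ≠ 1) {v w : V} (hv : InW (p : ℕ) v)
    (hw : InW (p : ℕ) w) :
    Bv A φ p v * Bv A φ p w = Bv A φ p (v + w) * Zc A p (sf v w) := by
  rcases eq_or_ne v 0 with rfl | hv0
  · simp [Bv_zero hφ, Zc_zero]
  rcases eq_or_ne w 0 with rfl | hw0
  · simp [Bv_zero hφ, Zc_zero]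
  obtain ⟨q, hq, l, hl, hlv⟩ := exists_rep hv hv0
  have hqp : (q : ℕ) < (p : ℕ) := by omega
  -- the hyperbolic case
  have hyp : ∀ x y : V, InW (p : ℕ) x → InW (p : ℕ) y → sf x y ≠ 0 →
      Bv A φ p x * Bv A φ p y = Bv A φ p (x + y) * Zc A p (sf x y) := by
    intro x y hx hy hxy
    have e : sf (ev q : V) ((-sf x y) • fv q) = sf x y := by simp [sf_ev_fv]
    obtain ⟨g, hg, g1, g2⟩ := exists_LG_move_pair (inW_ev hqp)
      (inW_smul (-sf x y) (inW_fv (k := q) hqp)) hx hy (by rw [e]; exact hxy) e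
    rw [← g1, ← g2]
    exact Bv_mul_transport hφ (inW_ev hqp) (inW_smul _ (inW_fv hqp)) hg
      (Bv_mul_InP hφ hq (InP_ev q) (InP_smul _ (InP_fv q)))
  rcases ne_or_eq (sf v w) 0 with h | h
  · exact hyp v w hv hw h
  rcases eq_or_ne (v + w) 0 with hs | hs
  · obtain rfl : w = -v := eq_neg_of_add_eq_zero_right hs
    have e : -v = l • ((-1 : F) • (ev q : V)) := by rw [smul_comm, hlv, neg_one_smul]
    rw [e, ← hlv]
    exact Bv_mul_transport hφ (inW_ev hqp) (inW_smul _ (inW_ev hqp)) hl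
      (Bv_mul_InP hφ hq (InP_ev q) (InP_smul _ (InP_ev q)))
  obtain ⟨z, hz, z1, z2, z3⟩ := exists_avoid_three hF hv hw (inW_add hv hw) hv0 hw0 hs
  have h' : sf w v = 0 := sf_eq_zero_comm h
  have z2' : sf z w = - sf w z := sf_swap w z
  have z1' : sf z v = - sf v z := sf_swap v z
  have d1 : sf (v + z) (-z) = - sf v z := by simp
  have d2 : sf (-z) w = sf w z := by simp [z2']
  have d3 : sf (v + z) (w + -z) = - sf (v + w) z := by
    simp [h, z2', add_comm]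
  have a1 := hyp (v + z) (-z) (inW_add hv hz) (inW_neg hz) (by rw [d1, neg_ne_zero]; exact z1)
  have a2 := hyp (-z) w (inW_neg hz) hw (by rw [d2]; exact z2)
  have a3 := hyp (v + z) (w + -z) (inW_add hv hz) (inW_add hw (inW_neg hz))
    (by rw [d3, neg_ne_zero]; exact z3)
  rw [d1, add_neg_cancel_right] at a1
  rw [d2, add_comm (-z) w] at a2
  rw [d3, show v + z + (w + -z) = v + w by abel] at a3
  have a1' : Bv A φ p v = Bv A φ p (v + z) * Bv A φ p (-z) * Zc A p (sf v z) := by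
    rw [a1, mul_assoc, ← Zc_add, neg_add_cancel, Zc_zero, mul_one]
  rw [h, Zc_zero, mul_one, a1', mul_assoc _ (Zc A p (sf v z)),
    ← (commute_Bv_Zc hφ hw (sf v z)).eq, mul_assoc, ← mul_assoc (Bv A φ p (-z)), a2,
    ← mul_assoc, ← mul_assoc, a3, mul_assoc, mul_assoc, ← Zc_add, ← Zc_add]
  rw [show - sf (v + w) z + (sf w z + sf v z) = 0 by simp; ring, Zc_zero, mul_one]

theorem B_mul (hF : ∃ a : F, a ≠ 0 ∧ a ≠ 1) {v w : V} (hv : InW (p : ℕ) v)
    (hw : InW (p : ℕ) w) (c d : F) :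
    B A φ p v c * B A φ p w d = B A φ p (v + w) (c + d + sf v w) := by
  rw [B, B, B, mul_assoc, ← mul_assoc (Zc A p c), ← (commute_Bv_Zc hφ hw c).eq, ← mul_assoc,
    ← mul_assoc, Bv_mul hφ hF hv hw, mul_assoc, mul_assoc, ← Zc_add, ← Zc_add]
  congr 2
  ring

theorem B_smul_ev {q : Fin n} (hq : (q : ℕ) + 1 = p) (a c : F) :
    B A φ p (a • ev q) c = A.μ q (pu (ev p) (a • ev q) c) := by
  obtain ⟨ψ, hψ, ha, hb⟩ := A.ms q q (by omega)
  rw [B, (Bv_InP hφ hq hψ ha hb (InP_smul a (InP_ev q))).2, ha _ (pu_mem_MM hq a 0),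
    ← Zc_eq_μ hq, ← mulOn_μ (A := A) (by omega) _ (pu_mem_MM hq a 0) _ (pu_mem_MM_zero hq c),
    pu_mul (sf_ev_inW (inW_smul a (inW_ev (by omega)))) (map_zero _)]
  simp

theorem φP_pu {v : V} (hv : InW (p : ℕ) v) (c : F) {l : Sp} (hl : l ∈ LG (p : ℕ)) :
    φP A φ p (pu (ev p) v c * l) = B A φ p v c * φ l := by
  obtain ⟨e1, e2, e3⟩ := decomp_eq hv c hl
  rw [φP, e1, e2, e3]

theorem φP_LG {l : Sp} (hl : l ∈ LG (p : ℕ)) : φP A φ p l = φ l := by
  have h := φP_pu hφ (inW_zero _) 0 hl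
  rwa [pu_zero, one_mul, B_zero hφ, Zc_zero, one_mul] at h

theorem φP_mul (hF : ∃ a : F, a ≠ 0 ∧ a ≠ 1) : MulOn (φP A φ p) (PG p) := by
  intro a ha b hb
  obtain ⟨v, c, l, hv, hl, rfl⟩ : ∃ v c l, InW (p : ℕ) v ∧ l ∈ LG (p : ℕ) ∧
      a = pu (ev p) v c * l := ⟨_, _, _, pv_inW ha, pl_mem ha, pu_pl p a⟩
  obtain ⟨w, d, l', hw, hl', rfl⟩ : ∃ w d l', InW (p : ℕ) w ∧ l' ∈ LG (p : ℕ) ∧
      b = pu (ev p) w d * l' := ⟨_, _, _, pv_inW hb, pl_mem hb, pu_pl p b⟩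
  have e : pu (ev p) v c * l * (pu (ev p) w d * l') =
      pu (ev p) (v + l • w) (c + d + sf v (l • w)) * (l * l') := by
    rw [← pu_mul (sf_ev_inW hv) (sf_ev_inW (LG_inW hl hw)), ← pu_conj_one hw d (LG_fix_ev hl)]
    group
  rw [e, φP_pu hφ (inW_add hv (LG_inW hl hw)) _ (mul_mem hl hl'), φP_pu hφ hv c hl,
    φP_pu hφ hw d hl', hφ.mul _ hl _ hl', ← B_mul hφ hF hv (LG_inW hl hw),
    B_conj hφ hw d hl]
  group

theorem φP_SS {g : Sp} (hg : g ∈ SS p) (hgP : g ∈ PG p) : φP A φ p g = A.σ p g := by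
  have hv := pv_inW hgP
  have hP : InP p (pv p g) := by
    intro k hk
    have hfix : ∀ x : V, g • x = x → sf x (g • (fv p : V)) = sf x (fv p) := fun x hx => by
      conv_lhs => rw [← hx, sf_smul_smul]
    have h1 := hfix _ ((mem_SS.1 hg) k hk).1
    have h2 := hfix _ ((mem_SS.1 hg) k hk).2
    rw [sf_ev, sf_ev_fv_ne hk, neg_eq_zero] at h1
    rw [sf_fv, sf_fv_fv] at h2
    simp only [pv, Pi.sub_apply, Pi.add_apply, Pi.smul_apply, h1, h2]
    simp [ev, fv, hk]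
  have h0 : pv p g = 0 := funext fun i => by
    rcases i with k | k
    · by_cases hk : k = p
      · exact (hv k (by rw [hk])).1
      · exact (hP k hk).1
    · by_cases hk : k = p
      · exact (hv k (by rw [hk])).2
      · exact (hP k hk).2
  have hlS : pl p g ∈ SS p := by
    rw [pl, h0]
    exact mul_mem (inv_mem (pu_mem_SS p _)) hg
  have hl1 : pl p g = 1 := by
    have hL := pl_mem hgP
    refine ext_basis (fun k => ?_) fun k => ?_ <;> rw [one_smul]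
    · by_cases hk : k = p
      · rw [hk]; exact LG_fix_ev hL
      · exact (mem_SS.1 hlS k hk).1
    · by_cases hk : k = p
      · rw [hk]; exact LG_fix_fv hL
      · exact (mem_SS.1 hlS k hk).2
  have e : g = pu (ev p) 0 (pc p g) := by
    conv_lhs => rw [pu_pl p g, h0, hl1, mul_one]
  rw [φP, hl1, hφ.mul.one, mul_one, h0, B_zero hφ, Zc, ← e]

theorem φP_MM {q : Fin n} (hq : (q : ℕ) + 1 = p) {g : Sp} (hg : g ∈ MM q) :
    g ∈ PG p ∧ φP A φ p g = A.μ q g := by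
  have hgP : g ∈ PG p := by
    intro x hx
    rcases hx with rfl | ⟨k, hk, rfl | rfl⟩
    · exact (mem_MM.1 hg).1 p
    · exact (mem_MM.1 hg).1 k
    · exact (mem_MM.1 hg).2 k (by omega) (by omega)
  refine ⟨hgP, ?_⟩
  have hv := pv_inW hgP
  have hfix : ∀ x : V, g • x = x → sf x (g • (fv p : V)) = sf x (fv p) := fun x hx => by
    conv_lhs => rw [← hx, sf_smul_smul]
  have hr : ∀ k : Fin n, pv p g (Sum.inr k) = 0 := fun k => by
    have h1 := hfix _ ((mem_MM.1 hg).1 k)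
    rw [sf_ev, sf_ev, neg_inj] at h1
    simp only [pv, Pi.sub_apply, Pi.add_apply, Pi.smul_apply, h1]
    simp [ev]
  have hl : ∀ k : Fin n, k ≠ q → pv p g (Sum.inl k) = 0 := fun k hk => by
    by_cases hkp : k = p
    · exact (hv k (by rw [hkp])).1
    have h2 := hfix _ ((mem_MM.1 hg).2 k (fun e => hk (Fin.ext e))
      fun e => hkp (Fin.ext (by omega)))
    rw [sf_fv, sf_fv_fv] at h2
    simp only [pv, Pi.sub_apply, Pi.add_apply, Pi.smul_apply, h2]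
    simp [ev, fv, hkp]
  obtain ⟨a, ha⟩ : ∃ a : F, pv p g = a • ev q := by
    refine ⟨pv p g (Sum.inl q), funext fun i => ?_⟩
    rcases i with k | k
    · by_cases hk : k = q
      · subst hk; simp [ev]
      · simp [hl k hk, ev, hk]
    · simp [hr k, ev]
  have hu : pu (ev p) (pv p g) (pc p g) ∈ MM q := by rw [ha]; exact pu_mem_MM hq a _
  have hlM : pl p g ∈ MM q := mul_mem (inv_mem hu) hg
  have hlS : pl p g ∈ SS q := by
    refine mem_SS.2 fun k hk => ⟨(mem_MM.1 hlM).1 k, ?_⟩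
    by_cases hkp : k = p
    · rw [hkp]; exact LG_fix_fv (pl_mem hgP)
    · exact (mem_MM.1 hlM).2 k (fun e => hk (Fin.ext e)) fun e => hkp (Fin.ext (by omega))
  rw [φP, hφ.eqσ q (by omega) _ hlS, ← agree (A := A) (by omega) hlM hlS, ha,
    B_smul_ev hφ hq, ← mulOn_μ (A := A) (by omega) _ (pu_mem_MM hq a _) _ hlM, ← ha,
    ← pu_pl]

end H87.SpAm
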